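import Cfsg.Agent.OddChar.TypeP.Noncoherent.Basic
import Cfsg.Agent.OddChar.TypeP.ChiefBasic
import Cfsg.Agent.OddChar.Coherence.Reduce
import Cfsg.Agent.OddChar.Constituent

/-!
# Tools for Peterfalvi section 11
-/

set_option autoImplicit false
set_option linter.unusedSectionVars false
set_option linter.style.haveILetI false

namespace Cfsg.Agent.OddChar.TypeP.TypeThree

open Cfsg Subgroup
open Cfsg.Agent.Characters
open scoped commutatorElement

universe u

section Groups

variable {G : Type u} [Group G]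

/-- A join has commutator subgroup in `N` when the commutators of the pieces lie in `N`. -/
theorem commutator_sup_le {X Y N : Subgroup G} (hX : X ≤ normalizer (N : Set G))
    (hY : Y ≤ normalizer (N : Set G)) (hXX : ⁅X, X⁆ ≤ N) (hXY : ⁅X, Y⁆ ≤ N) (hYY : ⁅Y, Y⁆ ≤ N) :
    ⁅X ⊔ Y, X ⊔ Y⁆ ≤ N := by
  set L := normalizer (N : Set G)
  haveI : (N.subgroupOf L).Normal := normal_subgroupOf_of_le_normalizer le_rfl
  set π := QuotientGroup.mk' (N.subgroupOf L)
  have key : ∀ A B : Subgroup G, A ≤ L → B ≤ L → ⁅A, B⁆ ≤ N →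
      (A.subgroupOf L).map π ≤ centralizer ((B.subgroupOf L).map π : Set (L ⧸ N.subgroupOf L)) := by
    intro A B _ _ h
    rw [← commutator_eq_bot_iff_le_centralizer, ← map_commutator, Subgroup.map_eq_bot_iff,
      QuotientGroup.ker_mk', commutator_le]
    intro a ha b hb
    rw [mem_subgroupOf] at ha hb ⊢
    have := h (commutator_mem_commutator ha hb)
    simpa [commutatorElement_def] using this
  have hXY' : ⁅Y, X⁆ ≤ N := commutator_comm X Y ▸ hXY
  set X' := (X.subgroupOf L).map π
  set Y' := (Y.subgroupOf L).map π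
  have h1 : X' ⊔ Y' ≤ centralizer (X' : Set (L ⧸ N.subgroupOf L)) :=
    sup_le (key X X hX hX hXX) (key Y X hY hX hXY')
  have h2 : X' ⊔ Y' ≤ centralizer (Y' : Set (L ⧸ N.subgroupOf L)) :=
    sup_le (key X Y hX hY hXY) (key Y Y hY hY hYY)
  have h3 : X' ⊔ Y' ≤ centralizer ((X' ⊔ Y' : Subgroup _) : Set (L ⧸ N.subgroupOf L)) :=
    le_centralizer_iff.mp (sup_le (le_centralizer_iff.mp h1) (le_centralizer_iff.mp h2))
  have hXYL : X ⊔ Y ≤ L := sup_le hX hY
  rw [commutator_le]
  intro a ha b hb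
  have hmap : ∀ z : L, (z : G) ∈ X ⊔ Y → π z ∈ X' ⊔ Y' := fun z hz => by
    rw [← Subgroup.map_sup, ← subgroupOf_sup hX hY]
    exact mem_map_of_mem π (mem_subgroupOf.mpr hz)
  have hc := mem_centralizer_iff.mp (h3 (hmap ⟨b, hXYL hb⟩ hb)) _ (hmap ⟨a, hXYL ha⟩ ha)
  have h := (commutatorElement_eq_one_iff_commute (g₁ := π ⟨a, hXYL ha⟩)
    (g₂ := π ⟨b, hXYL hb⟩)).mpr hc
  rw [← map_commutatorElement, QuotientGroup.mk'_apply, QuotientGroup.eq_one_iff, mem_subgroupOf]
    at h
  simpa [commutatorElement_def] using h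

variable [Finite G]

/-- A group of prime order `q` acting on `X`: `|X|` is congruent to the number of fixed points. -/
theorem card_modEq_fixed {A X : Subgroup G} (hq : (Nat.card A).Prime)
    (hA : A ≤ normalizer (X : Set G)) :
    Nat.card X ≡ Nat.card ↥(X ⊓ centralizer (A : Set G)) [MOD Nat.card A] := by
  classical
  haveI := Fact.mk hq
  letI act : MulAction A X :=
    { smul := fun a x => ⟨(a : G) * x * (a : G)⁻¹, (mem_normalizer_iff.mp (hA a.2) _).mp x.2⟩
      one_smul := fun x => Subtype.ext (by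
        show (1 : G) * x * (1 : G)⁻¹ = x; simp)
      mul_smul := fun a b x => Subtype.ext (by
        show (a : G) * b * x * ((a : G) * b)⁻¹ = (a : G) * ((b : G) * x * (b : G)⁻¹) * (a : G)⁻¹
        group) }
  have hp : IsPGroup (Nat.card A) A := IsPGroup.iff_card.mpr ⟨1, (pow_one _).symm⟩
  have h := hp.card_modEq_card_fixedPoints X
  suffices e : Nat.card (MulAction.fixedPoints A X) = Nat.card ↥(X ⊓ centralizer (A : Set G)) by
    rwa [e] at h
  refine Nat.card_congr
    { toFun := fun x => ⟨x.1.1, mem_inf.mpr ⟨x.1.2, mem_centralizer_iff.mpr fun a ha => ?_⟩⟩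
      invFun := fun x => ⟨⟨x.1, (mem_inf.mp x.2).1⟩, fun a => Subtype.ext ?_⟩
      left_inv := fun _ => rfl
      right_inv := fun _ => rfl }
  · have h1 : (a : G) * (x.1 : G) * (a : G)⁻¹ = x.1 := congrArg Subtype.val (x.2 ⟨a, ha⟩)
    exact mul_inv_eq_iff_eq_mul.mp h1
  · show (a : G) * (x.1 : G) * (a : G)⁻¹ = x.1
    rw [mem_centralizer_iff.mp (mem_inf.mp x.2).2 a a.2, mul_inv_cancel_right]

/-- A number congruent to `1` modulo an odd `q`, odd and at most `2 q`, is `1`. -/
theorem eq_one_of_small {m q : ℕ} (hq : Odd q) (hm : Odd m) (hle : m ≤ 2 * q)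
    (hmod : m ≡ 1 [MOD q]) : m = 1 := by
  obtain ⟨a, ha⟩ := hm
  have h1 : q ∣ m - 1 := (Nat.modEq_iff_dvd' (by omega)).mp hmod.symm
  have h2 : q ∣ a := by
    refine (Nat.Coprime.dvd_of_dvd_mul_left (Nat.coprime_two_right.2 hq)) ?_
    rwa [show 2 * a = m - 1 by omega]
  rcases Nat.eq_zero_or_pos a with rfl | hpos
  · omega
  · have := Nat.le_of_dvd hpos h2
    omega

end Groups

section Above

variable {L : Type u} [Group L] [Fintype L] (K A : Subgroup L) [hK : K.Normal] [hA : A.Normal]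

/-- Membership of an induced irreducible in `S(A)` is read off its values on `A`. -/
theorem trivial_on_iff [Fintype K] (hAK : A ≤ K) {θ : K → ℂ} (hθ : IsIrrCharacter K θ) :
    (∀ a ∈ A, indFun K θ a = indFun K θ 1) ↔ ∀ a : K, (a : L) ∈ A → θ a = θ 1 := by
  constructor
  · intro h a ha
    have hI : IsCharacter L (indFun K θ) := isCharacter_indFun K (isCharacter_of_isIrr hθ)
    refine Constituent.constituent_apply_eq_one (isCharacter_restrict K hI) hθ ?_
      (g := a) (by simpa using h _ ha)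
    intro h0
    have h2 := frobenius_reciprocity K θ (char_isClassFunction hI)
    rw [Coherence.inner_comm_zero h0] at h2
    have h3 : (indFun K θ) 1 = 0 := congrFun (classInner_self_eq_zero.mp h2) 1
    rw [indFun_one] at h3
    exact mul_ne_zero (Nat.cast_ne_zero.2 Subgroup.index_ne_zero_of_finite)
      (irr_one_ne_zero hθ) h3
  · intro h a ha
    rw [show a = ((⟨a, hAK ha⟩ : K) : L) from rfl, Induce.indFun_apply_normal K θ ⟨a, hAK ha⟩,
      show (1 : L) = (((1 : K) : K) : L) from rfl, Induce.indFun_apply_normal K θ 1]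
    refine congrArg _ (Finset.sum_congr rfl fun x _ => ?_)
    rw [h]
    · exact congrArg θ (Subtype.ext (by simp))
    · show x⁻¹ * a * x ∈ A
      simpa using hA.conj_mem a ha x⁻¹

/-- Membership in `S(A)`. -/
theorem mem_above_iff (hAK : A ≤ K) {φ : L → ℂ} :
    φ ∈ inducedIrrAbove K A ↔ φ ∈ inducedIrrAbove K ⊥ ∧ ∀ a ∈ A, φ a = φ 1 := by
  haveI := Fintype.ofFinite K
  constructor
  · intro h
    obtain ⟨θ, hθ, h1, hk, rfl⟩ := h
    exact ⟨⟨θ, hθ, h1, fun a ha => by rw [show a = 1 from Subtype.ext (mem_bot.mp ha)], rfl⟩,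
      (trivial_on_iff K A hAK hθ).mpr hk⟩
  · rintro ⟨⟨θ, hθ, h1, -, rfl⟩, h⟩
    exact ⟨θ, hθ, h1, (trivial_on_iff K A hAK hθ).mp h, rfl⟩

end Above

variable {G : Type u} [Group G] [Fintype G] {M W₁ U W₂ : Subgroup G}

/-- A subgroup of `M` normalised by `M`. -/
structure Inv (M A : Subgroup G) : Prop where
  le : A ≤ ⁅M, M⁆
  norm : M ≤ normalizer (A : Set G)

theorem Inv.le_M {A : Subgroup G} (h : Inv M A) : A ≤ M := h.le.trans M.commutator_le_self

theorem Inv.normal {A : Subgroup G} (h : Inv M A) : (A.subgroupOf M).Normal :=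
  normal_subgroupOf_of_le_normalizer h.norm

theorem Inv.sup {A B : Subgroup G} (hA : Inv M A) (hB : Inv M B) : Inv M (A ⊔ B) :=
  ⟨sup_le hA.le hB.le, (le_inf hA.norm hB.norm).trans (normalizer_inf_normalizer_le_normalizer_sup A B)⟩

theorem Inv.bot (M : Subgroup G) : Inv M (⊥ : Subgroup G) :=
  ⟨bot_le, fun x _ => mem_normalizer_iff.mpr fun g => by simp⟩

/-- `S(A)` is coherent. -/
def Coh (M A : Subgroup G) [Fintype M] : Prop :=
  IsCoherent (inducedIrrAbove (derivedIn M) (A.subgroupOf M)) {1}ᶜ (tau M)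

/-- `S` has a subcoherent system. -/
def HasSystem (M : Subgroup G) [Fintype M] : Prop :=
  ∃ R, IsCoherenceSystem (inducedIrrAbove (derivedIn M) ⊥) (tau M) R

theorem subgroupOf_le_of_le {A B : Subgroup G} (h : A ≤ B) :
    A.subgroupOf M ≤ B.subgroupOf M := fun _ hx => h hx

theorem subgroupOf_lt_derivedIn {A : Subgroup G} (hA : A ≤ ⁅M, M⁆) (hne : A ≠ ⁅M, M⁆) :
    A.subgroupOf M < derivedIn M := by
  refine lt_of_le_not_ge (subgroupOf_le_of_le hA) fun h => hne (le_antisymm hA fun x hx => ?_)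
  exact h (x := ⟨x, M.commutator_le_self hx⟩) hx

theorem solvable_derivedIn (hG : IsMinSimpleOddOrder G) (hM : IsCoatom M) :
    Group.IsSolvable (derivedIn M) := by
  haveI : Group.IsSolvable M := OddLocal.Transitivity.isSolvable_of_ne_top hG hM.1
  infer_instance

section

variable [Fintype M] (hG : IsMinSimpleOddOrder G) (hM : IsCoatom M)
  (hP : IsTypePWith M W₁ U W₂) (hS : HasSystem M)
include hG hM hP hS

/-- `S(A)` is coherent when `M'/A` is abelian. -/
theorem coh_abelian {A : Subgroup G} (hA : Inv M A) (hne : A ≠ ⁅M, M⁆)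
    (hab : ⁅(⁅M, M⁆ : Subgroup G), ⁅M, M⁆⁆ ≤ A) : Coh M A := by
  obtain ⟨R, hR⟩ := hS
  haveI := hA.normal
  haveI := Noncoherent.derivedIn_normal M
  refine Coherence.coherent_abelian (derivedIn M) (solvable_derivedIn hG hM) hR _
    (subgroupOf_lt_derivedIn hA.le hne) ?_
  rw [commutator_le]
  intro a ha b hb
  rw [mem_subgroupOf]
  have := hab (commutator_mem_commutator (mem_subgroupOf.mp ha) (mem_subgroupOf.mp hb))
  simpa [commutatorElement_def] using this

/-- The consequence of (6.3): if `S(A)` is coherent and `S(B)` is not, `[M' : A] - 1 ≤ 2 [M : X]`. -/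
theorem bound_of_not_coh {A B X : Subgroup G} (hA : Inv M A) (hB : Inv M B) (hX : X ≤ ⁅M, M⁆)
    (hAne : A ≠ ⁅M, M⁆) (hBne : B ≠ ⁅M, M⁆) (hBX : B ≤ X) (hXX : ⁅X, X⁆ ≤ B)
    (hcA : Coh M A) (hcB : ¬ Coh M B) :
    A.relIndex ⁅M, M⁆ - 1 ≤ 2 * X.relIndex M := by
  by_contra hlt
  push Not at hlt
  obtain ⟨R, hR⟩ := hS
  haveI := hA.normal
  haveI := hB.normal
  haveI := Noncoherent.derivedIn_normal M
  refine hcB (Coherence.coherent_step (derivedIn M) (solvable_derivedIn hG hM) hR
    (subgroupOf_lt_derivedIn hA.le hAne) (subgroupOf_lt_derivedIn hB.le hBne)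
    (subgroupOf_le_of_le hBX) le_rfl (subgroupOf_le_of_le hX) (fun x hx y hy => ?_) hcA ?_)
  · rw [mem_subgroupOf] at hx hy ⊢
    have := hXX (commutator_mem_commutator hx hy)
    simpa [commutatorElement_def] using this
  · rw [Subgroup.relIndex_self, mul_one, derivedIn, relIndex_subgroupOf M.commutator_le_self,
      show (X.subgroupOf M).index = X.relIndex M from rfl]
    calc 4 * X.relIndex M ^ 2 = (2 * X.relIndex M) ^ 2 := by ring
      _ < _ := Nat.pow_lt_pow_left hlt two_ne_zero

/-- Non-coherence goes up along a large nilpotent section. -/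
theorem not_coh_of_nilpotent {N B H C : Subgroup G} (hN : Inv M N) (hB : Inv M B)
    (hHC : Inv M (H ⊔ C)) (hH : Group.IsNilpotent H) (hC : Group.IsNilpotent C) (hHM : H ≤ M)
    (hCM : C ≤ M) (hcomm : ⁅H, C⁆ ≤ N) (hNB : N ≤ B) (hBH : B ≤ H ⊔ C)
    (hbig : 4 * Nat.card W₁ ^ 2 + 1 < B.relIndex (H ⊔ C)) (hcN : ¬ Coh M N) : ¬ Coh M B := by
  intro hcB
  obtain ⟨R, hR⟩ := hS
  haveI := hN.normal
  haveI := hB.normal
  haveI := hHC.normal
  haveI := Noncoherent.derivedIn_normal M
  set X := (H ⊔ C).subgroupOf M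
  haveI : ((N.subgroupOf M).subgroupOf X).Normal := normal_subgroupOf
  have hnil : Group.IsNilpotent (X ⧸ (N.subgroupOf M).subgroupOf X) := by
    haveI := hH
    haveI := hC
    let π := QuotientGroup.mk' ((N.subgroupOf M).subgroupOf X)
    let fH : H →* X :=
      { toFun := fun a => ⟨⟨a, hHM a.2⟩, mem_subgroupOf.mpr (mem_sup_left a.2)⟩
        map_one' := rfl
        map_mul' := fun _ _ => rfl }
    let fC : C →* X :=
      { toFun := fun a => ⟨⟨a, hCM a.2⟩, mem_subgroupOf.mpr (mem_sup_right a.2)⟩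
        map_one' := rfl
        map_mul' := fun _ _ => rfl }
    have hcom : ∀ a b, Commute ((π.comp fH) a) ((π.comp fC) b) := fun a b => by
      rw [← commutatorElement_eq_one_iff_commute, MonoidHom.comp_apply, MonoidHom.comp_apply,
        ← map_commutatorElement, QuotientGroup.mk'_apply, QuotientGroup.eq_one_iff, mem_subgroupOf,
        mem_subgroupOf]
      have := hcomm (commutator_mem_commutator a.2 b.2)
      simpa [commutatorElement_def, fH, fC] using this
    refine Group.nilpotent_of_surjective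
      (MonoidHom.noncommCoprod (π.comp fH) (π.comp fC) hcom) ?_
    rw [← MonoidHom.range_eq_top, MonoidHom.noncommCoprod_range, MonoidHom.range_comp,
      MonoidHom.range_comp, ← Subgroup.map_sup]
    have htop : fH.range ⊔ fC.range = ⊤ := by
      refine map_injective (f := M.subtype.comp X.subtype)
        (M.subtype_injective.comp X.subtype_injective) ?_
      rw [Subgroup.map_sup, ← MonoidHom.range_comp, ← MonoidHom.range_comp,
        show (M.subtype.comp X.subtype).comp fH = H.subtype from MonoidHom.ext fun _ => rfl,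
        show (M.subtype.comp X.subtype).comp fC = C.subtype from MonoidHom.ext fun _ => rfl,
        range_subtype, range_subtype, ← MonoidHom.range_eq_map, MonoidHom.range_comp, range_subtype,
        subgroupOf_map_subtype, inf_eq_left.mpr hHC.le_M]
    rw [htop, map_top_of_surjective π (QuotientGroup.mk'_surjective _)]
  refine hcN (Coherence.coherent_nilpotent (derivedIn M) (solvable_derivedIn hG hM) hR
    (subgroupOf_le_of_le hNB) (subgroupOf_le_of_le hBH) (subgroupOf_le_of_le hHC.le) hnil hcB ?_)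
  rwa [Noncoherent.index_derivedIn hP, relIndex_subgroupOf hHC.le_M]

end

end Cfsg.Agent.OddChar.TypeP.TypeThree
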