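import Cfsg.Agent.OddChar.TypeP.TypeThree.Glue
import Cfsg.Agent.OddChar.TypeP.Dichotomy
import Cfsg.Agent.OddChar.TypeP.Noncoherent.Main
import Cfsg.Agent.Lib.Coprime.PGroup
import Cfsg.Agent.S1502

/-!
# Peterfalvi (11.6)-(11.9)
-/

set_option autoImplicit false
set_option linter.unusedSectionVars false
set_option linter.style.haveILetI false

namespace Cfsg.Agent.OddChar.TypeP.TypeThree

open Cfsg Subgroup
open Cfsg.Agent.Characters
open scoped commutatorElement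

universe u

variable {G : Type u} [Group G] [Fintype G] {M W₁ U W₂ C : Subgroup G} [Fintype M]
  {η : (↥(W₁ ⊔ W₂) →* ℂˣ) → G → ℂ} {μ : (↥(W₁ ⊔ W₂) →* ℂˣ) → ↥M → ℂ}
  {δ : (↥(W₁ ⊔ W₂) →* ℂˣ) → ℂ} {R : (↥M → ℂ) → Finset (G → ℂ)} {n : ℤ}

theorem exists_data (hG : IsMinSimpleOddOrder G) (hM : IsCoatom M) (hP : IsTypePWith M W₁ U W₂)
    (hty : IsOfTypeIII M ∨ IsOfTypeIV M) : Data M W₁ U W₂ := by
  classical
  have hcore : typeCore M = ⁅M, M⁆ := by simp [typeCore, hty]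
  obtain ⟨V₁, V, V₂, hP', hV, hq'⟩ : ∃ V₁ V V₂ : Subgroup G, IsTypePWith M V₁ V V₂ ∧ V ≠ ⊥ ∧
      (Nat.card V₁).Prime := by
    rcases hty with ⟨a, b, c, h1, h2, h3, -⟩ | ⟨a, b, c, h1, h2, h3, -⟩ <;>
      exact ⟨a, b, c, h1, h2, h3⟩
  have hW : Nat.card V₁ = Nat.card W₁ :=
    Nat.eq_of_mul_eq_mul_left Nat.card_pos ((card_M hP').symm.trans (card_M hP))
  have hUV : Nat.card V = Nat.card U :=
    Nat.eq_of_mul_eq_mul_left Nat.card_pos ((card_derived hP').symm.trans (card_derived hP))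
  obtain ⟨η, hη⟩ := S1502.result W₁ W₂ hP.selfNormalizing
    (hG.1.of_dvd_nat (card_subgroup_dvd_card _))
  obtain ⟨μ, δ, hμ⟩ := mu hG M W₁ U W₂ hM hP
  obtain ⟨R, hR, -⟩ := subcoherent hG M W₁ U W₂ hM hP η hη μ δ hμ
  refine ⟨hG, hM, hP, hcore, (Noncoherent.exists_partner hG hM hP hcore).1, hW ▸ hq', ?_,
    ⟨R, Noncoherent.calS_eq_above hcore ▸ hR⟩, ?_⟩
  · intro e
    refine hV ((card_eq_one).1 ?_)
    rw [hUV, e, card_bot]
  · rw [Coh, bot_subgroupOf, ← Noncoherent.calS_eq_above hcore]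
    exact Noncoherent.noncoherent hG M hM (hty.imp id Or.inl)

section

variable (F : Full M W₁ U W₂ C η μ δ R n)
include F

theorem Full.exists_mem : ∃ ζ, ζ ∈ degQ M C := by
  obtain ⟨⟨α, hα, hne⟩, -⟩ := F.coh_degQ
  change α ∈ zspanOn (degQ M C) {1}ᶜ at hα
  by_contra h
  push Not at h
  have he : degQ M C = ∅ := Set.eq_empty_of_forall_notMem h
  have h0 : α ∈ zspan (degQ M C) := hα.1
  rw [he, zspan, Submodule.span_empty, SetLike.mem_coe, Submodule.mem_bot] at h0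
  exact hne h0

/-- The `η`-part of `τ(μ₀ - ζ)`. -/
theorem Full.pattern {ζ : ↥M → ℂ} (hζ : ζ ∈ degQ M C) :
    Nat.card W₂ < Nat.card W₁ ∧ ∀ ω,
      (ω ∈ rightSet W₁ W₂ → classInner (tau M (colSum μ 1 - ζ)) (η ω) = 1) ∧
      (ω ∉ rightSet W₁ W₂ → classInner (tau M (colSum μ 1 - ζ)) (η ω) = 0) :=
  (F.budget hζ).resolve_left (F.not_exact hζ)

/-- The split case does not occur. -/
theorem Full.galois : GaloisData M W₁ U W₂ ⊥ C (Nat.card W₂) := by
  classical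
  have d := F.st.toData
  have hG := F.st.hG
  have hM := F.st.hM
  have hP := F.st.hP
  have c := F.ctx
  refine (dichotomyStatement_proof hG M W₁ U W₂ ⊥ C (Nat.card W₂) hM hP F.st.hq F.st.chief).resolve_right ?_
  rintro ⟨H₁, C₁, a, hSD⟩
  obtain ⟨ζ, hζ⟩ := F.exists_mem
  obtain ⟨hζi, hζ1⟩ := F.degQ_spec hζ
  have hζS := F.degQ_subset hζ
  obtain ⟨hlt, hpat⟩ := F.pattern hζ
  have hUM : U ≤ M := U_le_M hP
  set u := C.relIndex U with hudef
  have ha_le : a ≤ Nat.card W₂ - 1 :=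
    Nat.le_of_dvd (by have := d.three_le hP.selfNormalizing.2.1; omega) hSD.dvd
  have ha0 : 1 < a := hSD.one_lt
  have hqu : Nat.card W₁ < u := by
    have h2 := F.two_le
    have hu : (u : ℤ) = 1 + n * (Nat.card W₁ : ℤ) := F.ctx.hc.eq
    have h3 : (0 : ℤ) < Nat.card W₁ := by exact_mod_cast Nat.card_pos (α := W₁)
    have : (Nat.card W₁ : ℤ) < u := by nlinarith
    exact_mod_cast this
  have hau : a < u := by omega
  have hsplit := CoreCoherence.split hG.1 hP F.st.hq F.st.chief hSD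
  obtain ⟨S1, T, m, hS1, -, hcard, -, -, h1C⟩ :=
    CoreCoherence.Split.families hsplit (by rw [relIndex_subgroupOf hUM]; exact hau)
  obtain ⟨ψ, hψ⟩ : S1.Nonempty := Finset.card_pos.1 (by omega)
  obtain ⟨hψi, hψ1, hψS, -, -⟩ := hS1 ψ hψ
  have hψ2 : ψ ∈ calSH M (⊥ ⊔ ⁅C, C⁆) := by
    rw [CoreCoherence.calSH_eq bot_le ((d.C_le F.st.chief).trans hUM)]
    exact hψS
  obtain ⟨-, τ₂, h2, hag2⟩ := CoreCoherence.coreCoherence_proof hG M W₁ U W₂ ⊥ C (Nat.card W₂)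
    hM hP F.st.hq F.st.chief
  change IsLinearIsometryOn (zspan (calSH M (⊥ ⊔ ⁅C, C⁆))) τ₂ at h2
  change ∀ α ∈ zspanOn (calSH M (⊥ ⊔ ⁅C, C⁆)) {1}ᶜ, τ₂ α = tau M α at hag2
  have hS2 : calSH M (⊥ ⊔ ⁅C, C⁆) ⊆ calS M := CoreCoherence.calSH_subset hP _
  obtain ⟨k, hk, hk1⟩ : ∃ k ∈ rightSet W₁ W₂, k ≠ 1 := by
    by_contra hno
    push Not at hno
    have : Nat.card (rightSet W₁ W₂) ≤ 1 := Finite.card_le_one_iff_subsingleton.2
      ⟨fun x y => Subtype.ext ((hno x x.2).trans (hno y y.2).symm)⟩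
    rw [Tools.card_rightSet hP.selfNormalizing] at this
    have := d.three_le hP.selfNormalizing.2.1
    omega
  set χ := colSum μ k with hχdef
  have hχ2 : χ ∈ calSH M (⊥ ⊔ ⁅C, C⁆) := F.mem_S₂ (F.st.col_C c.hμ hk hk1) fun h =>
    F.ne_col (F.degQ_spec h).1 hk rfl
  have hne : ψ ≠ χ := F.ne_col hψi hk
  have hne' : ψ ≠ conjFun χ := fun e => c.hμ.col_not_irr hG hP hk
    (show IsIrrCharacter ↥M χ by
      rw [← conjFun_conjFun' χ, ← e]
      exact isIrrCharacter_conj hψi)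
  set w := (a : ℂ) • χ - (u : ℂ) • ψ with hwdef
  have hw : w ∈ zspanOn (calSH M (⊥ ⊔ ⁅C, C⁆)) {1}ᶜ := Isometry.mem_zspanOn_compl_one
    (Submodule.sub_mem _
      (by rw [Nat.cast_smul_eq_nsmul]; exact nsmul_mem (Isometry.mem_zS hχ2) a)
      (by rw [Nat.cast_smul_eq_nsmul]; exact nsmul_mem (Isometry.mem_zS hψ2) u))
    (by
      simp only [hwdef, Pi.sub_apply, Pi.smul_apply, smul_eq_mul, hψ1, hχdef, c.col_one hk hk1]
      push_cast
      ring)
  have hwS := Isometry.zspanOn_mono _ hS2 hw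
  have hτw : tau M w = (a : ℂ) • τ₂ χ - (u : ℂ) • τ₂ ψ := by
    rw [← hag2 _ hw, hwdef, Nat.cast_smul_eq_nsmul, Nat.cast_smul_eq_nsmul,
      ← natCast_zsmul, ← natCast_zsmul,
      Isometry.map_sub' (M := Isometry.zS (calSH M (⊥ ⊔ ⁅C, C⁆))) h2
        (Submodule.smul_mem _ _ (Isometry.mem_zS hχ2))
        (Submodule.smul_mem _ _ (Isometry.mem_zS hψ2)),
      h2.2.1 _ (Isometry.mem_zS hχ2), h2.2.1 _ (Isometry.mem_zS hψ2), natCast_zsmul, natCast_zsmul,
      ← Nat.cast_smul_eq_nsmul ℂ, ← Nat.cast_smul_eq_nsmul ℂ]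
  have hgen := F.Y_isGen hζ
  have hYgen : IsGeneralizedCharacter G (tau M (colSum μ 1 - ζ)) :=
    S1501.result _ _ _ c.dade _ hgen fun x hx => F.Y_supp hζ hx
  obtain ⟨s, hs⟩ := classInner_gen_int hYgen (h2.2.2.2 _ (Isometry.mem_zS hψ2))
  have hψζ : classInner ζ ψ = 0 := classInner_isIrr_ne hζi hψi fun e => by
    rw [← e, hζ1] at hψ1
    have : Nat.card W₁ = Nat.card W₁ * a := by exact_mod_cast hψ1
    exact absurd (Nat.eq_of_mul_eq_mul_left Nat.card_pos ((mul_one _).trans this)).symm ha0.ne'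
  have hpair := inner_tau hG hM (isGen_isClassFunction hgen) (fun x hx => F.Y_supp hζ hx)
    (c.span hwS.1).2.1 fun x hx => c.supp₀ hwS hx
  rw [hτw, hwdef] at hpair
  have hcolY : ∀ l ∈ rightSet W₁ W₂, classInner (tau M (colSum μ 1 - ζ)) (colSum η l) = 1 := by
    intro l hl
    haveI := Fintype.ofFinite (leftSet W₁ W₂)
    rw [Tools.colSum_eq_sum η l, classInner_sum_right, Finset.sum_eq_single
      (⟨1, Tools.one_mem_leftSet⟩ : leftSet W₁ W₂) (fun i _ hi => ?_)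
      (fun hn => absurd (Finset.mem_univ _) hn)]
    · rw [show ((⟨1, Tools.one_mem_leftSet⟩ : leftSet W₁ W₂) : ↥(W₁ ⊔ W₂) →* ℂˣ) * l = l from
        MonoidHom.ext fun w => one_mul _]
      exact (hpat l).1 hl
    · refine (hpat _).2 fun h => hi (Subtype.ext ?_)
      exact ((CyclicTI.split_of hP.selfNormalizing).mul_inj i.2 CyclicTI.isLeft_one hl h
        (MonoidHom.ext fun w => (one_mul _).symm)).1
  have hsum : (classInner (tau M (colSum μ 1 - ζ)) (τ₂ χ) = 1 ∨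
      classInner (tau M (colSum μ 1 - ζ)) (τ₂ χ) = -1) := by
    rcases columnImage hG M W₁ U W₂ hM hP η c.hη μ δ c.hμ _ hS2 (calSH_conj _ _) τ₂ h2 hag2 k hk
      hk1 hχ2 ⟨ψ, hψ2, hne, hne'⟩ with e | e
    · left; rw [e, (F.delta_one hk hk1).1, one_smul]; exact hcolY k hk
    · right
      rw [e, (F.delta_one hk hk1).1, one_smul, show -colSum η k⁻¹ = (-1 : ℂ) • colSum η k⁻¹ by simp,
        classInner_smul_right, hcolY _ (inv_mem_rightSet hk)]
      simp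
  have h0 : classInner (colSum μ 1) χ = 0 := by
    rw [hχdef, c.hμ.inner_col hG hP Tools.one_mem_rightSet hk, if_neg hk1.symm]
  have h0' : classInner ζ χ = 0 := Coherence.inner_comm_zero (F.inner_col_zeta hζS hζi k)
  simp only [classInner_sub_right, classInner_smul_right, map_natCast, hs] at hpair
  simp only [classInner_sub_left, hψζ, h0, h0', F.inner_col_zeta (hS2 hψ2) hψi] at hpair
  have key : (a : ℤ) = (u : ℤ) * s ∨ -(a : ℤ) = (u : ℤ) * s := by
    rcases hsum with e | e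
    · left
      rw [e] at hpair
      have : ((a : ℤ) : ℂ) = (((u : ℤ) * s : ℤ) : ℂ) := by push_cast; linear_combination hpair
      exact_mod_cast this
    · right
      rw [e] at hpair
      have : ((-(a : ℤ) : ℤ) : ℂ) = (((u : ℤ) * s : ℤ) : ℂ) := by
        push_cast; linear_combination hpair
      exact_mod_cast this
  have hdvd : u ∣ a := Int.natCast_dvd_natCast.1 <| by
    rcases key with e | e
    · exact ⟨s, e⟩
    · exact dvd_neg.1 ⟨s, e⟩
  exact absurd (Nat.le_of_dvd (by omega) hdvd) (by omega)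

/-- `U` is cyclic and `C = 1`. -/
theorem Full.cyclic_U : IsCyclic U ∧ C = ⊥ := by
  obtain ⟨u, hu, hgen⟩ := F.galois.cyclic
  have hle : zpowers u ≤ U := zpowers_le.2 hu
  have hCU := F.st.toData.C_le F.st.chief
  haveI := F.st.hP.U_nilpotent
  have h : zpowers u ⊔ ⁅U, U⁆ = U := by
    rw [← F.st.cent]
    refine le_antisymm (sup_le hle hCU) fun v hv => ?_
    obtain ⟨k, hk⟩ := hgen v hv
    rw [show v = v * u ^ k * (u ^ k)⁻¹ by group]
    exact mul_mem (mem_sup_right hk) (inv_mem (mem_sup_left (zpow_mem (mem_zpowers u) k)))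
  have e := Cfsg.Agent.Coprime.eq_of_le_of_sup_commutator_eq hle h
  refine ⟨e ▸ Subgroup.isCyclic_zpowers u, ?_⟩
  rw [F.st.cent, commutator_eq_bot_iff_le_centralizer]
  intro x hx
  rw [← e] at hx
  refine mem_centralizer_iff.mpr fun y hy => ?_
  have hy' : y ∈ zpowers u := e ▸ hy
  obtain ⟨i, rfl⟩ := hx
  obtain ⟨j, rfl⟩ := hy'
  exact (Commute.zpow_zpow_self u j i).eq

end

theorem exists_setting (hG : IsMinSimpleOddOrder G) (hM : IsCoatom M)
    (hP : IsTypePWith M W₁ U W₂) (hty : IsOfTypeIII M ∨ IsOfTypeIV M)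
    (hη : IsCyclicTIFamily W₁ W₂ η) (hμ : MuData M W₁ W₂ μ δ) :
    ∃ C R n, Full M W₁ U W₂ C η μ δ R n := by
  obtain ⟨C, S⟩ := exists_struct (exists_data hG hM hP hty)
  obtain ⟨R, n, F⟩ := exists_full S hη hμ
  exact ⟨C, R, n, F⟩

/-- Everything but the exclusion of type IV. -/
theorem typeThree_aux (hG : IsMinSimpleOddOrder G) (hM : IsCoatom M)
    (hP : IsTypePWith M W₁ U W₂) (hty : IsOfTypeIII M ∨ IsOfTypeIV M) :
    Nat.card W₂ < Nat.card W₁ ∧ IsCyclic U ∧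
      U ⊓ centralizer ((fittingHallOf M : Subgroup G) : Set G) = ⊥ ∧
      IsElementaryAbelian (Nat.card W₂) (fittingHallOf M) ∧
      Nat.card (fittingHallOf M) = Nat.card W₂ ^ Nat.card W₁ := by
  obtain ⟨η, hη⟩ := S1502.result W₁ W₂ hP.selfNormalizing
    (hG.1.of_dvd_nat (card_subgroup_dvd_card _))
  obtain ⟨μ, δ, hμ⟩ := mu hG M W₁ U W₂ hM hP
  obtain ⟨C, R, n, F⟩ := exists_setting hG hM hP hty hη hμ
  obtain ⟨ζ, hζ⟩ := F.exists_mem
  obtain ⟨hc, hC⟩ := F.cyclic_U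
  exact ⟨(F.pattern hζ).1, hc, F.st.cent'.symm.trans hC,
    ⟨⟨⟨fun a b => Subtype.ext (F.st.comm a a.2 b b.2)⟩⟩, F.st.elem⟩, F.st.card⟩

theorem typeThree : TypeThreeStatement.{u} := by
  intro G _ _ hG M W₁ U W₂ hM hP hty
  classical
  haveI := Fintype.ofFinite G
  haveI := Fintype.ofFinite M
  refine ⟨?_, typeThree_aux hG hM hP hty⟩
  rintro hIV
  obtain ⟨V₁, V, V₂, hP', -, -, -, hnc, -⟩ := id hIV
  obtain ⟨-, hcyc, -⟩ := typeThree_aux hG hM hP' (Or.inr hIV)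
  haveI := hcyc
  exact hnc (IsCyclic.isMulCommutative)

theorem typeThreeColumn : TypeThreeColumnStatement.{u} := by
  intro G _ _ hG M W₁ U W₂ _ hM hP hIII η hη μ δ hμ ζ hζS hζi hζ1
  classical
  obtain ⟨C, R, n, F⟩ := exists_setting hG hM hP (Or.inl hIII) hη hμ
  refine (F.pattern ?_).2
  rw [Noncoherent.calS_eq_above F.st.hcore] at hζS
  obtain ⟨θ, hθ, hne, -, rfl⟩ := hζS
  refine ⟨θ, hθ, hne, fun a ha => ?_, rfl⟩
  have hθ1 : θ 1 = 1 := by
    rw [indFun_one, Noncoherent.index_derivedIn hP] at hζ1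
    exact (mul_eq_left₀ natCard_ne_zero).1 hζ1
  set f := linearOfDegreeOne (isCharacter_of_isIrr hθ) hθ1
  have hle : fittingHallOf M ⊔ C ≤ ⁅(⁅M, M⁆ : Subgroup G), ⁅M, M⁆⁆ := by
    refine sup_le ?_ ?_
    · conv_lhs => rw [← F.st.commU]
      exact commutator_mono (H_le_derived hP) hP.U_compl.2.1
    · rw [F.st.cent]
      exact commutator_mono hP.U_compl.2.1 hP.U_compl.2.1
  have hker : ⁅(⁅M, M⁆ : Subgroup G), ⁅M, M⁆⁆ ≤
      (f.ker.map (derivedIn M).subtype).map M.subtype := by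
    rw [commutator_le]
    intro x hx y hy
    refine ⟨⁅(⟨x, M.commutator_le_self hx⟩ : M), ⟨y, M.commutator_le_self hy⟩⁆,
      ⟨⁅(⟨⟨x, M.commutator_le_self hx⟩, hx⟩ : derivedIn M),
        ⟨⟨y, M.commutator_le_self hy⟩, hy⟩⁆, ?_, ?_⟩, ?_⟩
    · rw [SetLike.mem_coe, MonoidHom.mem_ker, map_commutatorElement,
        commutatorElement_eq_one_iff_commute]
      exact Commute.all _ _
    · rw [map_commutatorElement]; rfl
    · rw [map_commutatorElement]; rfl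
  obtain ⟨b, ⟨b', hb', e1⟩, e2⟩ := hker (hle (mem_subgroupOf.mp ha))
  have hab : b' = a := by
    refine Subtype.ext (Subtype.ext ?_)
    rw [← e1] at e2
    exact e2
  subst hab
  have : ((f b' : ℂˣ) : ℂ) = 1 := by rw [MonoidHom.mem_ker.1 hb']; rfl
  rw [hθ1]
  simpa [f] using this

end Cfsg.Agent.OddChar.TypeP.TypeThree
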