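import Mathlib
import Cfsg.Agent.Lib.Forms.Bases

/-!
# Arithmetic and linear algebra for Peterfalvi section 11
-/

set_option autoImplicit false

namespace Cfsg.Agent.OddChar.TypeP.TypeThree

universe u v

/-- `p ^ q` is large for distinct odd `p, q`. -/
theorem pow_big {p q : ℕ} (hp : 3 ≤ p) (hq : 3 ≤ q) (hne : p ≠ q) (hqo : Odd q) (hpo : Odd p) :
    4 * q ^ 2 + 1 < p ^ q := by
  obtain ⟨a, rfl⟩ := hqo
  obtain ⟨b, rfl⟩ := hpo
  by_cases ha : a = 1
  · subst ha
    have hb : 2 ≤ b := by omega
    calc 4 * (2 * 1 + 1) ^ 2 + 1 < 5 ^ (2 * 1 + 1) := by norm_num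
      _ ≤ (2 * b + 1) ^ (2 * 1 + 1) := Nat.pow_le_pow_left (by omega) _
  · have key : ∀ n : ℕ, 5 ≤ n → 4 * n ^ 2 + 1 < 3 ^ n := by
      intro n hn
      induction n, hn using Nat.le_induction with
      | base => norm_num
      | succ n hn ih =>
        rw [pow_succ 3 n]
        nlinarith
    exact lt_of_lt_of_le (key _ (by omega)) (Nat.pow_le_pow_left hp _)

theorem alt_invariant_eq_zero_aux {F : Type u} [Field F] [Fintype F] {p q : ℕ} [Fact p.Prime]
    [CharP F p] (hcard : Fintype.card F = p ^ q) (hq : Odd q) {D : Type v} [AddCommGroup D]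
    [Module (ZMod p) D] (c : F → F → D) (hl : ∀ x y z, c (x + y) z = c x z + c y z)
    (hr : ∀ x y z, c x (y + z) = c x y + c x z) (halt : ∀ x, c x x = 0) (S : Set F)
    (hS : ∀ s ∈ S, s ≠ 0) (hinv : ∀ s ∈ S, ∀ x y, c (s * x) (s * y) = c x y)
    (hirr : ∀ N : AddSubgroup F, (∀ s ∈ S, ∀ x ∈ N, s * x ∈ N) → N = ⊥ ∨ N = ⊤) :
    ∀ x y, c x y = 0 := by
  classical
  let _ : Algebra (ZMod p) F := ZMod.algebra F p
  intro x y
  refine (Module.forall_dual_apply_eq_zero_iff (R := ZMod p) (V := D) (c x y)).1 fun φ => ?_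
  let B₀ : F →+ (F →+ ZMod p) :=
    { toFun := fun a =>
        { toFun := fun b => φ (c a b)
          map_zero' := by
            have h : c a 0 + c a 0 = c a 0 := by rw [← hr, add_zero]
            rw [add_eq_left.mp h, map_zero]
          map_add' := fun b b' => by rw [hr, map_add] }
      map_zero' := by
        ext b
        have h : c 0 b + c 0 b = c 0 b := by rw [← hl, add_zero]
        show φ (c 0 b) = 0
        rw [add_eq_left.mp h, map_zero]
      map_add' := fun a a' => by
        ext b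
        show φ (c (a + a') b) = φ (c a b) + φ (c a' b)
        rw [hl, map_add] }
  let B : LinearMap.BilinForm (ZMod p) F :=
    LinearMap.mk₂ (ZMod p) (fun a b => B₀ a b)
      (fun a a' b => by rw [map_add, AddMonoidHom.add_apply])
      (fun k a b => by
        rw [← ZMod.natCast_zmod_val k, Nat.cast_smul_eq_nsmul, Nat.cast_smul_eq_nsmul, map_nsmul,
          AddMonoidHom.nsmul_apply])
      (fun a b b' => map_add _ _ _)
      (fun k a b => by
        rw [← ZMod.natCast_zmod_val k, Nat.cast_smul_eq_nsmul, Nat.cast_smul_eq_nsmul, map_nsmul])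
  have hB : ∀ a b, B a b = φ (c a b) := fun a b => rfl
  have hA : B.IsAlt := fun a => by rw [hB, halt, map_zero]
  let N : AddSubgroup F := (LinearMap.ker B).toAddSubgroup
  have hN : ∀ a, a ∈ N ↔ ∀ b, φ (c a b) = 0 := fun a => by
    change B a = 0 ↔ _
    exact ⟨fun h b => by rw [← hB, h, LinearMap.zero_apply], fun h => LinearMap.ext h⟩
  rcases hirr N (fun s hs a ha => (hN _).mpr fun b => by
      have h := hinv s hs a (s⁻¹ * b)
      rw [mul_inv_cancel_left₀ (hS s hs)] at h
      rw [h]
      exact (hN a).mp ha _) with e | e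
  · exfalso
    have hker : LinearMap.ker B = ⊥ := Submodule.toAddSubgroup_injective e
    have hsep : B.SeparatingLeft := fun a ha => by
      have h : a ∈ LinearMap.ker B := LinearMap.ext ha
      rwa [hker, Submodule.mem_bot] at h
    have hnd : B.Nondegenerate := ⟨hsep, fun b hb => hsep b fun a => by
      rw [← LinearMap.IsAlt.neg hA, hb, neg_zero]⟩
    obtain ⟨m, hm⟩ := Cfsg.Agent.Forms.Bases.even_finrank_of_alt B hA hnd
    have h : Fintype.card F = Fintype.card (ZMod p) ^ Module.finrank (ZMod p) F :=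
      Module.card_eq_pow_finrank
    rw [hcard, ZMod.card, hm] at h
    have h2 : q = 2 * m := Nat.pow_right_injective (Fact.out (p := p.Prime)).two_le h
    obtain ⟨a, ha⟩ := hq
    omega
  · exact (hN x).mp (by rw [e]; trivial) y

/-- An alternating pairing on a finite field of odd degree over its prime field, invariant under a
set of non-zero multipliers acting irreducibly, vanishes. -/
theorem alt_invariant_eq_zero {F : Type u} [Field F] [Fintype F] {p q : ℕ} [Fact p.Prime]
    [CharP F p] (hcard : Fintype.card F = p ^ q) (hq : Odd q) {D : Type v} [AddCommGroup D]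
    (hD : ∀ d : D, p • d = 0) (c : F → F → D) (hl : ∀ x y z, c (x + y) z = c x z + c y z)
    (hr : ∀ x y z, c x (y + z) = c x y + c x z) (halt : ∀ x, c x x = 0) (S : Set F)
    (hS : ∀ s ∈ S, s ≠ 0) (hinv : ∀ s ∈ S, ∀ x y, c (s * x) (s * y) = c x y)
    (hirr : ∀ N : AddSubgroup F, (∀ s ∈ S, ∀ x ∈ N, s * x ∈ N) → N = ⊥ ∨ N = ⊤) :
    ∀ x y, c x y = 0 :=
  @alt_invariant_eq_zero_aux F _ _ p q _ _ hcard hq D _ (AddCommGroup.zmodModule hD) c hl hr halt S
    hS hinv hirr

end Cfsg.Agent.OddChar.TypeP.TypeThree
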