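import Cfsg.Agent.OddChar.TypeP.TypeThree.Setting

/-!
# The `η`-part of `τ(μ₀ - ζ)`
-/

set_option autoImplicit false
set_option linter.unusedSectionVars false
set_option linter.style.haveILetI false

namespace Cfsg.Agent.OddChar.TypeP.TypeThree

open Cfsg Subgroup
open Cfsg.Agent.Characters
open scoped ComplexConjugate

universe u

variable {G : Type u} [Group G] [Fintype G] {M W₁ U W₂ C : Subgroup G} [Fintype M]
  {η : (↥(W₁ ⊔ W₂) →* ℂˣ) → G → ℂ} {μ : (↥(W₁ ⊔ W₂) →* ℂˣ) → ↥M → ℂ}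
  {δ : (↥(W₁ ⊔ W₂) →* ℂˣ) → ℂ} {R : (↥M → ℂ) → Finset (G → ℂ)} {n : ℤ}

theorem sum_point {ι : Type*} [DecidableEq ι] (s : Finset ι) {a : ι} (ha : a ∈ s) (y : ℤ) :
    ∑ φ ∈ s, (if φ = a then y else y + 1) ^ 2 = y ^ 2 + ((s.card : ℤ) - 1) * (y + 1) ^ 2 := by
  rw [← Finset.add_sum_erase _ _ ha, if_pos rfl,
    Finset.sum_congr rfl (g := fun _ => (y + 1) ^ 2) fun φ hφ => by
      rw [if_neg (Finset.mem_erase.1 hφ).1],
    Finset.sum_const, Finset.card_erase_of_mem ha, nsmul_eq_mul,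
    Nat.cast_sub (Finset.card_pos.2 ⟨a, ha⟩), Nat.cast_one]

/-- Solving the budget inequality. -/
theorem budget_cases {p q r c y N : ℤ} (hp : 3 ≤ p) (hq : 3 ≤ q) (hN : 2 ≤ N) (hne : p ≠ q)
    (h : 1 + (q - 1) * r ^ 2 + (p - 1) * c ^ 2 + (q - 1) * (p - 1) * (r + c - 1) ^ 2 +
      (y ^ 2 + (N - 1) * (y + 1) ^ 2) ≤ q + 1) :
    (r = 1 ∧ c = 0 ∧ (y = -1 ∨ y = 0 ∧ N = 2) ∧
      1 + (q - 1) * r ^ 2 + (p - 1) * c ^ 2 + (q - 1) * (p - 1) * (r + c - 1) ^ 2 +
        (y ^ 2 + (N - 1) * (y + 1) ^ 2) = q + 1) ∨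
      (r = 0 ∧ c = 1 ∧ p < q) := by
  have hb : 1 ≤ y ^ 2 + (N - 1) * (y + 1) ^ 2 := by
    rcases eq_or_ne y (-1) with rfl | hy
    · norm_num
    · have : 1 ≤ (y + 1) ^ 2 := by
        have := sq_pos_of_ne_zero (show y + 1 ≠ 0 by omega)
        omega
      nlinarith [sq_nonneg y]
  have he : r + c - 1 = 0 := by
    by_contra he
    have h1 : 1 ≤ (r + c - 1) ^ 2 := sq_pos_of_ne_zero he
    have h2 : (q - 1) * 2 ≤ (q - 1) * (p - 1) * (r + c - 1) ^ 2 := by
      calc (q - 1) * 2 ≤ (q - 1) * (p - 1) * 1 := by nlinarith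
        _ ≤ _ := mul_le_mul_of_nonneg_left h1 (by nlinarith)
    nlinarith [sq_nonneg r, sq_nonneg c, mul_nonneg (show (0 : ℤ) ≤ q - 1 by omega) (sq_nonneg r),
      mul_nonneg (show (0 : ℤ) ≤ p - 1 by omega) (sq_nonneg c)]
  have hc : c = 1 - r := by omega
  subst hc
  rw [he] at h ⊢
  have hr : r ^ 2 ≤ 1 := by
    by_contra hlt
    push Not at hlt
    nlinarith [mul_le_mul_of_nonneg_left (show (2 : ℤ) ≤ r ^ 2 by omega)
      (show (0 : ℤ) ≤ q - 1 by omega),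
      mul_nonneg (show (0 : ℤ) ≤ p - 1 by omega) (sq_nonneg (1 - r))]
  have hrb : -1 ≤ r ∧ r ≤ 1 := ⟨by nlinarith, by nlinarith⟩
  obtain rfl | rfl | rfl : r = -1 ∨ r = 0 ∨ r = 1 := by omega
  · exfalso; nlinarith
  · right
    refine ⟨rfl, by ring, lt_of_le_of_ne ?_ hne⟩
    nlinarith
  · left
    have hy : y ^ 2 + (N - 1) * (y + 1) ^ 2 = 1 := by nlinarith
    refine ⟨rfl, by ring, ?_, by linarith⟩
    rcases eq_or_ne y (-1) with rfl | hy1
    · exact Or.inl rfl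
    · right
      have h1 : 1 ≤ (y + 1) ^ 2 := sq_pos_of_ne_zero (show y + 1 ≠ 0 by omega)
      have hN1 : 1 * 1 ≤ (N - 1) * (y + 1) ^ 2 := by
        exact mul_le_mul (by omega) h1 (by norm_num) (by omega)
      have hy0 : y = 0 := by
        have : y ^ 2 = 0 := le_antisymm (by linarith) (sq_nonneg y)
        exact pow_eq_zero_iff two_ne_zero |>.1 this
      subst hy0
      exact ⟨rfl, by linarith⟩

theorem conjFun_add' (α β : ↥M → ℂ) : conjFun (α + β) = conjFun α + conjFun β :=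
  funext fun _ => map_add (starRingEnd ℂ) _ _

theorem conjFun_zsmul' (k : ℤ) (α : ↥M → ℂ) : conjFun (k • α) = k • conjFun α :=
  funext fun _ => map_zsmul (starRingEnd ℂ) _ _

theorem conjFun_mem_zspan {S' : Set (↥M → ℂ)} (hS' : ∀ φ ∈ S', conjFun φ ∈ S') {α : ↥M → ℂ}
    (hα : α ∈ zspan S') : conjFun α ∈ zspan S' := by
  refine Submodule.span_induction (p := fun x _ => conjFun x ∈ Submodule.span ℤ S')
    (fun x hx => Submodule.subset_span (hS' x hx)) ?_ ?_ ?_ hα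
  · rw [show conjFun (0 : ↥M → ℂ) = 0 from funext fun _ => map_zero (starRingEnd ℂ)]
    exact zero_mem _
  · intro u v _ _ hu hv
    rw [conjFun_add']
    exact add_mem hu hv
  · intro k u _ hu
    rw [conjFun_zsmul']
    exact Submodule.smul_mem _ k hu

variable (F : Full M W₁ U W₂ C η μ δ R n)
include F

theorem Full.one_col_mem {ω : ↥(W₁ ⊔ W₂) →* ℂˣ} :
    (ω ∈ leftSet W₁ W₂ ∧ ω ∈ rightSet W₁ W₂) ↔ ω = 1 := by
  refine ⟨fun h => ?_, fun e => e ▸ ⟨Tools.one_mem_leftSet, Tools.one_mem_rightSet⟩⟩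
  exact ((CyclicTI.split_of F.st.hP.selfNormalizing).mul_inj h.1 CyclicTI.isLeft_one
    CyclicTI.isRight_one h.2 ((mul_one ω).trans (one_mul ω).symm)).1

theorem Full.col_one_one : colSum μ 1 (1 : M) = (Nat.card W₁ : ℂ) := by
  rw [F.ctx.hμ.col_apply_derived F.st.hG F.st.hP 1 (x := (1 : M)) (by simp), F.ctx.hμ.map_one,
    mul_one]

theorem Full.Y_supp {ζ : ↥M → ℂ} (hζ : ζ ∈ degQ M C) {x : M} (hx : (x : G) ∉ typeA0 M) :
    (colSum μ 1 - ζ) x = 0 := by
  by_cases hd : (x : G) ∈ ⁅M, M⁆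
  · by_cases h1 : x = 1
    · rw [h1, Pi.sub_apply, F.col_one_one, (F.degQ_spec hζ).2, sub_self]
    · refine absurd (Or.inl ?_) hx
      rw [Noncoherent.typeA_eq_core F.st.hP F.st.hG F.st.hM F.st.hcore]
      exact ⟨hd, fun e => h1 (Subtype.ext e)⟩
  · rw [Pi.sub_apply, F.ctx.hμ.col_apply_notMem F.st.hG F.st.hP 1 hd,
      (F.ctx.member (F.degQ_subset hζ)).2.2 x hd, sub_self]

theorem Full.inner_col_zeta {φ : ↥M → ℂ} (hφ : φ ∈ calS M) (hi : IsIrrCharacter ↥M φ)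
    (j : ↥(W₁ ⊔ W₂) →* ℂˣ) : classInner (colSum μ j) φ = 0 := by
  classical
  haveI := Fintype.ofFinite (leftSet W₁ W₂)
  rw [Tools.colSum_eq_sum, classInner_sum_left]
  exact Finset.sum_eq_zero fun i _ => F.ctx.inner_mu_irr hφ hi _

theorem Full.Y_isGen {ζ : ↥M → ℂ} (hζ : ζ ∈ degQ M C) :
    IsGeneralizedCharacter ↥M (colSum μ 1 - ζ) := by
  classical
  haveI := Fintype.ofFinite (leftSet W₁ W₂)
  refine isGen_sub ?_ (F.ctx.member (F.degQ_subset hζ)).1
  rw [Tools.colSum_eq_sum]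
  exact isGen_sum _ _ fun i _ => isGen_of_isCharacter (isCharacter_of_isIrr (F.ctx.hμ.irr _))

/-- Either `τ(μ₀ - ζ)` is exact, or its `η`-part is the row `i = 0` and `p < q`. -/
theorem Full.budget {ζ : ↥M → ℂ} (hζ : ζ ∈ degQ M C) :
    (∃ τ₁, IsLinearIsometryOn (zspan (degQ M C)) τ₁ ∧
      (∀ α ∈ zspanOn (degQ M C) {1}ᶜ, τ₁ α = tau M α) ∧
      tau M (colSum μ 1 - ζ) = colSum η 1 - τ₁ ζ) ∨
    (Nat.card W₂ < Nat.card W₁ ∧ ∀ ω,
      (ω ∈ rightSet W₁ W₂ → classInner (tau M (colSum μ 1 - ζ)) (η ω) = 1) ∧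
      (ω ∉ rightSet W₁ W₂ → classInner (tau M (colSum μ 1 - ζ)) (η ω) = 0)) := by
  classical
  haveI := Fintype.ofFinite (↥(W₁ ⊔ W₂) →* ℂˣ)
  haveI := Fintype.ofFinite (leftSet W₁ W₂)
  have hG := F.st.hG
  have hM := F.st.hM
  have hP := F.st.hP
  have hW := hP.selfNormalizing
  have c := F.ctx
  obtain ⟨-, τ₁, h1, hag⟩ := F.coh_degQ
  change IsLinearIsometryOn (zspan (degQ M C)) τ₁ at h1
  change ∀ α ∈ zspanOn (degQ M C) {1}ᶜ, τ₁ α = tau M α at hag
  obtain ⟨hζi, hζ1⟩ := F.degQ_spec hζ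
  have hζS := F.degQ_subset hζ
  set Y := tau M (colSum μ 1 - ζ) with hYdef
  have hgen := F.Y_isGen hζ
  have hYgen : IsGeneralizedCharacter G Y :=
    S1501.result _ _ _ c.dade _ hgen fun x hx => F.Y_supp hζ hx
  have hYcl := isGen_isClassFunction hYgen
  have hYV : ∀ w : ↥(W₁ ⊔ W₂), (w : G) ∉ W₁ → (w : G) ∉ W₂ → Y w = 0 := fun w n1 n2 => by
    have hd : ((⟨w, W_le hP w.2⟩ : M) : G) ∉ ⁅M, M⁆ := fun hd =>
      n2 (mem_W₂_of_mem_derived hG hP w.2 hd)
    rw [hYdef, tau_apply_W hG hM hP (isGen_isClassFunction hgen) w n1 n2, Pi.sub_apply,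
      c.hμ.col_apply_notMem hG hP 1 hd, (c.member hζS).2.2 _ hd, sub_self]
  obtain ⟨a, ha⟩ := Tools.exists_coef c.hη hYgen
  have hμ1 : ∀ i : leftSet W₁ W₂, (i : ↥(W₁ ⊔ W₂) →* ℂˣ) * 1 = i := fun i =>
    MonoidHom.ext fun w => mul_one _
  have ha1 : a 1 = 1 := by
    have h := inner_tau_one hG hM (isGen_isClassFunction hgen) fun x hx => F.Y_supp hζ hx
    rw [← c.hη.map_one, ha, classInner_sub_left, Tools.colSum_eq_sum, classInner_sum_left,
      ← c.hμ.map_one, Coherence.inner_comm_zero (c.inner_mu_irr hζS hζi 1), sub_zero,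
      Finset.sum_eq_single (⟨1, Tools.one_mem_leftSet⟩ : leftSet W₁ W₂) (fun b _ hb => by
        rw [hμ1]
        exact classInner_isIrr_ne (c.hμ.irr _) (c.hμ.irr _) fun e => hb (Subtype.ext (c.hμ.inj e)))
        (fun hn => absurd (Finset.mem_univ _) hn), hμ1, classInner_isIrr_self (c.hμ.irr _)] at h
    exact_mod_cast h
  obtain ⟨cc, hcc⟩ := Tools.const_of_colSum c.hη hW hYcl hYV ha fun j hj k hk hj1 hk1 => by
    rw [← sub_eq_zero, ← classInner_sub_right, ← F.tau_col_diff hj hj1 hk hk1, hYdef]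
    have hm : colSum μ j - colSum μ k ∈ zspanOn (calS M) {1}ᶜ := Isometry.mem_zspanOn_compl_one
      (Submodule.sub_mem _ (Isometry.mem_zS (c.hcol j hj hj1)) (Isometry.mem_zS (c.hcol k hk hk1)))
      (by rw [Pi.sub_apply, c.col_one hj hj1, c.col_one hk hk1, sub_self])
    rw [inner_tau hG hM (isGen_isClassFunction hgen) (fun x hx => F.Y_supp hζ hx)
      (c.span hm.1).2.1 fun x hx => c.supp₀ hm hx]
    have h0 : classInner ζ (colSum μ j) = 0 ∧ classInner ζ (colSum μ k) = 0 :=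
      ⟨c.hsys.orthogonal ζ hζS _ (c.hcol j hj hj1) (F.ne_col hζi hj),
        c.hsys.orthogonal ζ hζS _ (c.hcol k hk hk1) (F.ne_col hζi hk)⟩
    simp only [classInner_sub_left, classInner_sub_right,
      c.hμ.inner_col hG hP Tools.one_mem_rightSet hj, c.hμ.inner_col hG hP Tools.one_mem_rightSet hk,
      if_neg hj1.symm, if_neg hk1.symm, h0.1, h0.2, sub_zero]
  obtain ⟨rr, hrr⟩ := F.row_const hYcl hYV ha (F.row_orth _)
  set N := F.degQ_finite.toFinset with hNdef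
  have hN : ∀ {φ}, φ ∈ N ↔ φ ∈ degQ M C := F.degQ_finite.mem_toFinset
  obtain ⟨y, hy⟩ := classInner_gen_int hYgen (h1.2.2.2 _ (Isometry.mem_zS hζ))
  have hu : ∀ φ ∈ N, classInner Y (τ₁ φ) = (((if φ = ζ then y else y + 1 : ℤ)) : ℂ) := by
    intro φ hφ
    rw [hN] at hφ
    by_cases e : φ = ζ
    · rw [if_pos e, e, hy]
    rw [if_neg e]
    have hm : φ - ζ ∈ zspanOn (degQ M C) {1}ᶜ := Isometry.mem_zspanOn_compl_one
      (Submodule.sub_mem _ (Isometry.mem_zS hφ) (Isometry.mem_zS hζ))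
      (by rw [Pi.sub_apply, (F.degQ_spec hφ).2, hζ1, sub_self])
    have hm' := Isometry.zspanOn_mono _ F.degQ_subset hm
    have h2 : classInner Y (tau M (φ - ζ)) = 1 := by
      rw [hYdef, inner_tau hG hM (isGen_isClassFunction hgen) (fun x hx => F.Y_supp hζ hx)
        (c.span hm'.1).2.1 fun x hx => c.supp₀ hm' hx]
      simp only [classInner_sub_left, classInner_sub_right,
        F.inner_col_zeta (F.degQ_subset hφ) (F.degQ_spec hφ).1, F.inner_col_zeta hζS hζi,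
        classInner_isIrr_self hζi, classInner_isIrr_ne hζi (F.degQ_spec hφ).1 (Ne.symm e)]
      ring
    rw [← hag _ hm, Isometry.map_sub' (M := Isometry.zS (degQ M C)) h1 (Isometry.mem_zS hφ)
      (Isometry.mem_zS hζ), classInner_sub_right, hy, sub_eq_iff_eq_add] at h2
    rw [h2]; push_cast; ring
  have horth : ∀ φ ∈ N, ∀ ω, classInner (η ω) (τ₁ φ) = 0 := fun φ hφ ω =>
    Coherence.inner_comm_zero (image_orth F.degQ_subset F.degQ_conj h1 hag c.hsys c.hRirr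
      (hN.1 hφ) (F.degQ_spec (hN.1 hφ)).1 ω)
  have hgram : ∀ φ ∈ N, ∀ ψ ∈ N,
      classInner (τ₁ φ) (τ₁ ψ) = if φ = ψ then ((1 : ℕ) : ℂ) else 0 := fun φ hφ ψ hψ => by
    rw [h1.2.2.1 _ (Isometry.mem_zS (hN.1 hφ)) _ (Isometry.mem_zS (hN.1 hψ))]
    split_ifs with e
    · rw [e, classInner_isIrr_self (F.degQ_spec (hN.1 hψ)).1, Nat.cast_one]
    · exact classInner_isIrr_ne (F.degQ_spec (hN.1 hφ)).1 (F.degQ_spec (hN.1 hψ)).1 e
  have hb := Tools.norm_bound c.hη N τ₁ (fun _ => 1) (fun _ _ => one_pos) hgram horth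
    (u := fun φ => if φ = ζ then y else y + 1) hu ha
  have hYY : classInner Y Y = (Nat.card W₁ : ℂ) + 1 := by
    rw [hYdef, inner_tau hG hM (isGen_isClassFunction hgen) (fun x hx => F.Y_supp hζ hx)
      (isGen_isClassFunction hgen) fun x hx => F.Y_supp hζ hx]
    simp only [classInner_sub_left, classInner_sub_right, c.col_norm, F.inner_col_zeta hζS hζi,
      Coherence.inner_comm_zero (F.inner_col_zeta hζS hζi 1), classInner_isIrr_self hζi]
    ring
  have hgrid : ∀ i ∈ leftSet W₁ W₂, ∀ j ∈ rightSet W₁ W₂, a (i * j) = a i + a j - a 1 :=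
    fun i hi j hj => Tools.coef_grid c.hη hW hYcl hYV ha hi hj
  have hsum : (∑ φ ∈ N, ((if φ = ζ then y else y + 1 : ℤ) : ℝ) ^ 2 / ((1 : ℕ) : ℝ)) =
      ((y ^ 2 + ((N.card : ℤ) - 1) * (y + 1) ^ 2 : ℤ) : ℝ) := by
    rw [← sum_point N (hN.2 hζ) y, Int.cast_sum]
    exact Finset.sum_congr rfl fun φ _ => by push_cast; ring
  have hre : (classInner Y Y).re = (((Nat.card W₁ : ℤ) + 1 : ℤ) : ℝ) := by
    rw [hYY]; simp
  rw [hsum, hre, Tools.sum_sq_const hW hgrid hrr hcc, ha1, ← Int.cast_add, Int.cast_le,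
    Int.cast_le, one_pow] at hb
  have hN2 : (2 : ℤ) ≤ N.card := F.two_le.trans F.card_degQ
  have hp3 : (3 : ℤ) ≤ Nat.card W₂ := by exact_mod_cast F.st.toData.three_le hW.2.1
  have hq3 : (3 : ℤ) ≤ Nat.card W₁ := by exact_mod_cast F.st.toData.three_le hP.W₁_ne
  have hne : (Nat.card W₂ : ℤ) ≠ Nat.card W₁ := by
    intro e
    have h := F.st.toData.coprime_p_q
    rw [show Nat.card W₂ = Nat.card W₁ by exact_mod_cast e, Nat.coprime_self] at h
    exact F.st.hq.ne_one h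
  rcases budget_cases hp3 hq3 hN2 hne hb.1 with ⟨rfl, rfl, hy', heq⟩ | ⟨rfl, rfl, hlt⟩
  · left
    have hYe := hb.2 heq.ge
    have hpart : (∑ ω, (a ω : ℂ) • η ω) = colSum η 1 := by
      rw [Tools.colSum_eq_sum, ← (Tools.cellEquiv hW).sum_comp, Fintype.sum_prod_type]
      refine Finset.sum_congr rfl fun i _ => ?_
      rw [Finset.sum_eq_single (⟨1, Tools.one_mem_rightSet⟩ : rightSet W₁ W₂) (fun j _ hj => ?_)
        (fun hn => absurd (Finset.mem_univ _) hn), Tools.cellEquiv_apply]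
      · show (a ((i : ↥(W₁ ⊔ W₂) →* ℂˣ) * 1) : ℂ) • η ((i : ↥(W₁ ⊔ W₂) →* ℂˣ) * 1) = _
        rw [hμ1]
        by_cases hi : (i : ↥(W₁ ⊔ W₂) →* ℂˣ) = 1
        · rw [hi, ha1, Int.cast_one, one_smul]
        · rw [hrr i i.2 hi, Int.cast_one, one_smul]
      · rw [Tools.cellEquiv_apply, hgrid i i.2 j j.2, hcc j j.2 fun e => hj (Subtype.ext e), ha1]
        by_cases hi : (i : ↥(W₁ ⊔ W₂) →* ℂˣ) = 1
        · rw [hi, ha1]; simp
        · rw [hrr i i.2 hi]; simp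
    rw [hpart] at hYe
    rcases hy' with rfl | ⟨rfl, hcard⟩
    · refine ⟨τ₁, h1, hag, hYe.trans ?_⟩
      rw [sub_eq_add_neg, Finset.sum_eq_single ζ (fun φ _ hne => by rw [if_neg hne]; simp)
        (fun hn => absurd (hN.2 hζ) hn), if_pos rfl]
      simp
    · have hζ' : conjFun ζ ∈ N := hN.2 (F.degQ_conj ζ hζ)
      have hne' : conjFun ζ ≠ ζ := c.hsys.conj_ne ζ hζS
      have hNeq : N = {ζ, conjFun ζ} := by
        refine (Finset.eq_of_subset_of_card_le ?_ ?_).symm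
        · exact Finset.insert_subset (hN.2 hζ) (Finset.singleton_subset_iff.2 hζ')
        · rw [Finset.card_pair hne'.symm]
          omega
      have hset : degQ M C = {ζ, conjFun ζ} := by
        ext φ
        rw [← hN, hNeq]
        simp
      have hzc : ∀ α ∈ zspan (degQ M C), conjFun α ∈ zspan (degQ M C) := fun α hα =>
        conjFun_mem_zspan F.degQ_conj hα
      refine ⟨fun α => -τ₁ (conjFun α), ⟨?_, ?_, ?_, ?_⟩, ?_, hYe.trans ?_⟩
      · intro α hα β hβ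
        show -τ₁ (conjFun (α + β)) = -τ₁ (conjFun α) + -τ₁ (conjFun β)
        rw [conjFun_add', h1.1 _ (hzc α hα) _ (hzc β hβ)]
        abel
      · intro α hα k
        show -τ₁ (conjFun (k • α)) = k • -τ₁ (conjFun α)
        rw [conjFun_zsmul', h1.2.1 _ (hzc α hα), smul_neg]
      · intro α hα β hβ
        show classInner (-τ₁ (conjFun α)) (-τ₁ (conjFun β)) = _
        rw [classInner_neg_left, show -τ₁ (conjFun β) = ((-1 : ℤ) : ℂ) • τ₁ (conjFun β) by simp,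
          classInner_smul_right, map_intCast, h1.2.2.1 _ (hzc α hα) _ (hzc β hβ)]
        obtain ⟨z, hz⟩ := classInner_gen_int (c.span (Submodule.span_mono F.degQ_subset hα)).1
          (c.span (Submodule.span_mono F.degQ_subset hβ)).1
        have hzz : classInner (conjFun α) (conjFun β) = conj (classInner α β) := by
          simp only [classInner_def, conjFun, map_mul, map_inv₀, Complex.conj_natCast, map_sum]
        rw [hzz, hz, map_intCast]
        push_cast; ring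
      · intro α hα
        show IsGeneralizedCharacter G (-τ₁ (conjFun α))
        rw [← zero_sub]
        exact isGen_sub isGen_zero (h1.2.2.2 _ (hzc α hα))
      · intro α hα
        obtain ⟨k, l, e⟩ := Submodule.mem_span_pair.1 (hset ▸ hα.1 :
          α ∈ Submodule.span ℤ ({ζ, conjFun ζ} : Set (↥M → ℂ)))
        have h0 := hα.2 1 (by simp)
        rw [← e] at h0
        rw [Pi.add_apply, Pi.smul_apply, Pi.smul_apply, Coherence.conj_one c.hsys hζS, hζ1,
          zsmul_eq_mul, zsmul_eq_mul, ← add_mul, mul_eq_zero] at h0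
        replace h0 := h0.resolve_right natCard_ne_zero
        have hl : l = -k := by
          have : (l : ℂ) = ((-k : ℤ) : ℂ) := by push_cast; linear_combination h0
          exact_mod_cast this
        have hc' : conjFun α = (-1 : ℤ) • α := by
          rw [← e, hl]
          funext x
          simp [conjFun]
          ring
        show -τ₁ (conjFun α) = _
        rw [hc', h1.2.1 _ hα.1, hag α hα]
        simp
      · rw [hNeq, Finset.sum_pair hne'.symm, if_pos rfl, if_neg hne']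
        simp [sub_eq_add_neg]
  · right
    refine ⟨by exact_mod_cast hlt, fun ω => ?_⟩
    obtain ⟨⟨i, j⟩, rfl⟩ := (Tools.cellEquiv hW).surjective ω
    rw [Tools.cellEquiv_apply]
    have hiff : ((i : ↥(W₁ ⊔ W₂) →* ℂˣ) * j ∈ rightSet W₁ W₂) ↔
        (i : ↥(W₁ ⊔ W₂) →* ℂˣ) = 1 := by
      refine ⟨fun h => ((CyclicTI.split_of hW).mul_inj i.2 CyclicTI.isLeft_one j.2 h
        (MonoidHom.ext fun w => (one_mul _).symm)).1, fun e => ?_⟩
      rw [e, show (1 : ↥(W₁ ⊔ W₂) →* ℂˣ) * j = j from MonoidHom.ext fun w => one_mul _]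
      exact j.2
    rw [ha, hgrid i i.2 j j.2]
    refine ⟨fun h => ?_, fun h => ?_⟩
    · rw [hiff.1 h]
      by_cases hj : (j : ↥(W₁ ⊔ W₂) →* ℂˣ) = 1
      · rw [hj, ha1]; simp
      · rw [hcc j j.2 hj, ha1]; simp
    · have hi : (i : ↥(W₁ ⊔ W₂) →* ℂˣ) ≠ 1 := fun e => h (hiff.2 e)
      rw [hrr i i.2 hi]
      by_cases hj : (j : ↥(W₁ ⊔ W₂) →* ℂˣ) = 1
      · rw [hj, ha1]; simp
      · rw [hcc j j.2 hj, ha1]; simp

end Cfsg.Agent.OddChar.TypeP.TypeThree
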