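import Cfsg.Agent.OddChar.TypeP.TypeThree.Commutative
import Cfsg.Agent.OddChar.TypeP.CoreCoherence.Main
import Cfsg.Agent.OddChar.TypeP.Columns
import Cfsg.Agent.OddChar.TypeP.Noncoherent.Values

/-!
# Peterfalvi (11.8): the columns have degree `u q` and lie in `S(C)`
-/

set_option autoImplicit false
set_option linter.unusedSectionVars false
set_option linter.style.haveILetI false

namespace Cfsg.Agent.OddChar.TypeP.TypeThree

open Cfsg Subgroup
open Cfsg.Agent.Characters Cfsg.Agent.OddLocal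
open Cfsg.Agent.OddChar.TypeP.CoreCoherence (ev ev_of_mem ev_mul ev_one ev_inv DualOn card_dualOn
  indLin indLin_one irr_indLin indLin_ker Moves sect)
open scoped commutatorElement ComplexConjugate

universe u

variable {G : Type u} [Group G] [Fintype G] {M W₁ U W₂ C : Subgroup G} [Fintype M]
  (S : Struct M W₁ U W₂ C)
include S

theorem Struct.derivedU_le : ⁅U, U⁆ ≤ C := S.cent.ge

theorem Struct.inv_C : Inv M C := by
  have h := S.toData.inv_sup (Inv.bot M) (S.toData.C_le S.chief) S.chief.normal_cent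
    (S.toData.H_C_bot S.chief).le
  rwa [bot_sup_eq] at h

theorem Struct.inv_HC : Inv M (fittingHallOf M ⊔ C) := S.toData.inv_H.sup S.inv_C

theorem Struct.relIndex_HC : (fittingHallOf M ⊔ C).relIndex ⁅M, M⁆ = C.relIndex U := by
  rw [S.toData.relIndex_derived S.toData.inv_H le_rfl (S.toData.C_le S.chief), relIndex_self, one_mul]

theorem Struct.u_modEq : C.relIndex U ≡ 1 [MOD Nat.card W₁] := by
  have h1 := S.toData.card_modEq_U (S.toData.C_le S.chief)
    ((le_sup_right (a := U)).trans S.chief.normal_cent)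
  have h2 := S.toData.card_modEq_U le_rfl S.hP.U_normal
  rw [← card_mul_relIndex (S.toData.C_le S.chief)] at h2
  have h3 := h1.mul_right (C.relIndex U)
  rw [one_mul] at h3
  exact h3.symm.trans h2

theorem Struct.u_odd : Odd (C.relIndex U) :=
  (S.toData.odd U).of_dvd_nat
    ((card_mul_relIndex (S.toData.C_le S.chief)) ▸ dvd_mul_left _ _)

/-- A subgroup of `U` containing `C` whose commutators with `H` avoid some element is `C`. -/
theorem Struct.le_C_of_comm_ne {U₀ : Subgroup G} (hle : U₀ ≤ U) (hC : C ≤ U₀)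
    (hW : W₁ ≤ normalizer (U₀ : Set G)) (hne : ⁅fittingHallOf M, U₀⁆ ≠ fittingHallOf M) :
    U₀ ≤ C := by
  set H := fittingHallOf M with hH
  have hUn : U ≤ normalizer (U₀ : Set G) := fun x hx => mem_normalizer_fintype fun y hy => by
    rw [SetLike.mem_coe, show x * y * x⁻¹ = ⁅x, y⁆ * y by rw [commutatorElement_def]; group]
    exact mul_mem (hC (S.derivedU_le (commutator_mem_commutator hx (hle hy)))) hy
  have hVH : ⁅H, U₀⁆ ≤ H := Coprime.commutator_le_of_le_normalizer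
    ((hle.trans (U_le_M S.hP)).trans (M_le_normalizer_H M))
  have hVn : M ≤ normalizer ((⁅H, U₀⁆ : Subgroup G) : Set G) := by
    refine M_le_of_parts S.hP (normalizer_commutator_ge_left _ _) (fun x hx => ?_) (fun x hx => ?_)
    · exact Cfsg.Agent.Coprime.FrobeniusPGroup.mem_normalizer_commutator
        (M_le_normalizer_H M (U_le_M S.hP hx)) (hUn hx)
    · exact Cfsg.Agent.Coprime.FrobeniusPGroup.mem_normalizer_commutator
        (M_le_normalizer_H M (W₁_le_M S.hP hx)) (hW hx)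
  have hbot := (S.chief.minimal _ hVn bot_le hVH).resolve_right hne
  rw [S.cent']
  exact le_inf hle (Cfsg.Agent.Coprime.commutator_eq_bot_iff_le_centralizer'.mp hbot)

/-- An irreducible character of `M'` of degree `u`, invariant under `W₁`, trivial on `C` and not
on `H`. -/
theorem Struct.exists_theta : ∃ θ : derivedIn M → ℂ, IsIrrCharacter (derivedIn M) θ ∧
    θ 1 = (C.relIndex U : ℂ) ∧ (∀ a : derivedIn M, ((a : M) : G) ∈ C → θ a = θ 1) ∧
    θ ≠ (fun _ => 1) ∧
    ∀ g : M, (g : G) ∈ W₁ →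
      (fun k : derivedIn M => θ ⟨g * k * g⁻¹, (Noncoherent.derivedIn_normal M).conj_mem (k : M) k.2 g⟩) = θ := by
  classical
  haveI := Noncoherent.derivedIn_normal M
  have D := sect S.hG.1 S.hP S.hq S.chief
  haveI := D.Hn
  haveI := Fintype.ofFinite (derivedIn M)
  set H := (fittingHallOf M).subgroupOf M with hHdef
  set CM := C.subgroupOf M
  have hHM := H_le_M M
  have hWH : W₁ ≤ normalizer (fittingHallOf M : Set G) :=
    (W₁_le_M S.hP).trans (M_le_normalizer_H M)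
  set Q := (⁅fittingHallOf M, W₁⁆).subgroupOf M
  haveI : IsMulCommutative (fittingHallOf M) :=
    ⟨⟨fun a b => Subtype.ext (S.comm a a.2 b b.2)⟩⟩
  have hQn : (Q.subgroupOf H).Normal := ⟨fun q hq g => by
    have e : g * q * g⁻¹ = q := Subtype.ext (Subtype.ext (by
      show ((g : M) : G) * ((q : M) : G) * ((g : M) : G)⁻¹ = _
      rw [S.comm _ (mem_subgroupOf.mp g.2) _ (mem_subgroupOf.mp q.2), mul_inv_cancel_right]))
    rwa [e]⟩
  obtain ⟨hfin, hcard⟩ := card_dualOn H Q hQn fun a ha b hb => by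
    have e : a * b * a⁻¹ * b⁻¹ = 1 := Subtype.ext (by
      show (a : G) * b * (a : G)⁻¹ * (b : G)⁻¹ = 1
      rw [S.comm _ (mem_subgroupOf.mp ha) _ (mem_subgroupOf.mp hb), mul_inv_cancel_right,
        mul_inv_cancel])
    rw [e]
    exact one_mem _
  have hQne : 1 < Q.relIndex H := by
    rw [relIndex_subgroupOf hHM]
    have h0 : (⁅fittingHallOf M, W₁⁆).relIndex (fittingHallOf M) ≠ 0 := index_ne_zero_of_finite
    have h1 : (⁅fittingHallOf M, W₁⁆).relIndex (fittingHallOf M) ≠ 1 := fun e => by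
      have hb := Cfsg.Agent.Coprime.inf_centralizer_inf_commutator (A := W₁) (V := fittingHallOf M)
        hWH ((coprime_H S.hP).coprime_dvd_right (dvd_mul_left _ _)).symm
      rw [H_inf_centralizer_W₁ S.hP,
        inf_eq_left.mpr ((W₂_le_H S.hP).trans (relIndex_eq_one.mp e))] at hb
      exact S.hP.selfNormalizing.2.1 hb
    omega
  rw [← hcard] at hQne
  haveI := Finite.one_lt_card_iff_nontrivial.1 hQne
  obtain ⟨χ, hχ⟩ := exists_ne (⟨1, fun _ _ => rfl⟩ : DualOn H Q)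
  obtain ⟨y₀, hy₀, hy₀ne⟩ : ∃ y ∈ H, ev χ.1 y ≠ 1 := by
    by_contra hcon
    push Not at hcon
    refine hχ (Subtype.ext (MonoidHom.ext fun x => ?_))
    rw [← CoreCoherence.ev_coe χ.1 x, hcon x x.2]
    rfl
  have hconjH : ∀ (x : M) {y : M}, y ∈ H → x⁻¹ * y * x ∈ H := fun x y hy => D.conjH' x hy
  -- invariance under `W₁`
  have hχW : ∀ w : M, (w : G) ∈ W₁ → ∀ y ∈ H, ev χ.1 (w * y * w⁻¹) = ev χ.1 y := by
    intro w hw y hy
    have hz : w * y * w⁻¹ ∈ H := D.conjH w hy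
    have hc : w * y * w⁻¹ * y⁻¹ ∈ Q := by
      rw [mem_subgroupOf, ← inv_mem_iff]
      have h := commutator_mem_commutator (mem_subgroupOf.mp hy) hw
      simpa [commutatorElement_def, mul_assoc] using h
    calc ev χ.1 (w * y * w⁻¹) = ev χ.1 ((w * y * w⁻¹ * y⁻¹) * y) := by rw [inv_mul_cancel_right]
      _ = ev χ.1 y := by
        rw [ev_mul _ (H.mul_mem hz (H.inv_mem hy)) hy, CoreCoherence.ev_dual χ hc, one_mul]
  have hCfix : ∀ p ∈ CM, ∀ y ∈ H, p * y * p⁻¹ = y := by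
    intro p hp y hy
    refine Subtype.ext ?_
    show (p : G) * y * (p : G)⁻¹ = y
    rw [mul_inv_eq_iff_eq_mul]
    exact (mem_centralizer_iff.mp (S.toData.C_centralizes S.chief hp) y hy).symm
  obtain ⟨lam, hlamH, hlamC⟩ := D.exists_ext D.CU χ.1 (1 : CM →* ℂˣ) fun p hp y hy => by
    rw [hCfix p hp y hy]
  have hlamC' : ∀ p ∈ CM, ev lam p = 1 := fun p hp => by rw [hlamC p hp, ev_of_mem _ hp]; rfl
  -- the stabiliser
  let U₀ : Subgroup G :=
    { carrier := {x | x ∈ U ∧ ∀ (hx : x ∈ M), ∀ y ∈ H,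
        ev χ.1 ((⟨x, hx⟩ : M)⁻¹ * y * ⟨x, hx⟩) = ev χ.1 y}
      one_mem' := ⟨one_mem _, fun _ y _ => by
        rw [show (⟨1, _⟩ : M) = 1 from rfl, inv_one, one_mul, mul_one]⟩
      mul_mem' := by
        rintro a b ⟨ha, ha'⟩ ⟨hb, hb'⟩
        refine ⟨mul_mem ha hb, fun hx y hy => ?_⟩
        have haM : a ∈ M := U_le_M S.hP ha
        have hbM : b ∈ M := U_le_M S.hP hb
        rw [show (⟨a * b, hx⟩ : M) = ⟨a, haM⟩ * ⟨b, hbM⟩ from rfl, ← ha' haM y hy,
          ← hb' hbM _ (hconjH ⟨a, haM⟩ hy)]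
        exact congrArg _ (by group)
      inv_mem' := by
        rintro a ⟨ha, ha'⟩
        refine ⟨inv_mem ha, fun hx y hy => ?_⟩
        have haM : a ∈ M := U_le_M S.hP ha
        rw [show (⟨a⁻¹, hx⟩ : M) = ⟨a, haM⟩⁻¹ from rfl, inv_inv,
          ← ha' haM _ (D.conjH _ hy)]
        exact congrArg _ (by group) }
  have hU₀ : U₀ ≤ C := by
    refine S.le_C_of_comm_ne (fun x hx => hx.1) (fun x hx => ?_) (fun w hw => ?_) fun e => ?_
    · refine ⟨S.toData.C_le S.chief hx, fun hxM y hy => congrArg _ ?_⟩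
      have := hCfix ⟨x, hxM⟩⁻¹ (CM.inv_mem hx) y hy
      rwa [inv_inv] at this
    · refine mem_normalizer_fintype fun x hx => ?_
      obtain ⟨hx1, hx2⟩ := hx
      refine ⟨(mem_normalizer_iff.mp (S.hP.U_normal hw) x).mp hx1, fun hxM y hy => ?_⟩
      have hwM : w ∈ M := W₁_le_M S.hP hw
      set wM : M := ⟨w, hwM⟩
      set xM : M := ⟨x, U_le_M S.hP hx1⟩
      have h1 : wM⁻¹ * y * wM ∈ H := hconjH wM hy
      have h2 := hχW wM hw _ (hconjH xM h1)
      rw [hx2 _ _ h1, ← hχW wM hw _ h1] at h2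
      rw [show (⟨w * x * w⁻¹, hxM⟩ : M) = wM * xM * wM⁻¹ from rfl]
      refine Eq.trans ?_ ((congrArg (ev χ.1) (by group : wM * (wM⁻¹ * y * wM) * wM⁻¹ = y)))
      exact (congrArg (ev χ.1) (by group)).trans h2
    · have hle : ⁅fittingHallOf M, U₀⁆ ≤ (χ.1.ker.map H.subtype).map M.subtype := by
        rw [commutator_le]
        intro a ha x hx
        set aM : M := ⟨a, hHM ha⟩
        set xM : M := ⟨x, U_le_M S.hP hx.1⟩
        have ha' : aM⁻¹ ∈ H := H.inv_mem ha
        have hb : xM * aM⁻¹ * xM⁻¹ ∈ H := D.conjH xM ha'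
        refine ⟨aM * (xM * aM⁻¹ * xM⁻¹),
          ⟨⟨_, H.mul_mem ha hb⟩, ?_, rfl⟩, by simp [aM, xM, commutatorElement_def, mul_assoc]⟩
        rw [SetLike.mem_coe, MonoidHom.mem_ker, ← ev_of_mem, ev_mul _ (show aM ∈ H from ha) hb]
        have := hx.2 (U_le_M S.hP hx.1) _ hb
        rw [show xM⁻¹ * (xM * aM⁻¹ * xM⁻¹) * xM = aM⁻¹ by group] at this
        rw [← this, ev_inv _ (show aM ∈ H from ha), mul_inv_cancel]
      refine hy₀ne ?_
      obtain ⟨z, ⟨w', hw', rfl⟩, e'⟩ := hle (e.ge (mem_subgroupOf.mp hy₀))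
      rw [show y₀ = (w' : M) from Subtype.ext e'.symm, CoreCoherence.ev_coe]
      exact hw'
  have hle := D.sup_le_K D.CU
  set N' := (H ⊔ CM).subgroupOf (derivedIn M)
  haveI := Fintype.ofFinite N'
  set lam' : N' →* ℂˣ := lam.comp (subgroupOfEquivOfLe hle).toMonoidHom
  have hlam' : ∀ (z : derivedIn M) (hz : z ∈ N'), lam' ⟨z, hz⟩ = ev lam (z : M) := fun z hz => by
    rw [ev_of_mem lam (mem_subgroupOf.mp hz)]; rfl
  have hH'N : H.subgroupOf (derivedIn M) ≤ N' := fun y hy =>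
    mem_subgroupOf.2 (mem_sup_left (mem_subgroupOf.1 hy))
  set θ := indLin N' lam' with hθdef
  have hθ : IsIrrCharacter (derivedIn M) θ := by
    refine irr_indLin N' (H.subgroupOf (derivedIn M)) hH'N fun x hm => mem_subgroupOf.2 ?_
    obtain ⟨h, hh, v, hv, e⟩ := D.prod x x.2
    rw [e]
    refine mul_mem_sup hh (mem_subgroupOf.mpr (hU₀ ⟨hv, fun hvM z hz => ?_⟩))
    rw [← D.ev_conj_mul ⟨χ.1, fun z hz => by
      rw [show z = 1 from Subtype.ext (Subtype.ext (mem_bot.mp (mem_subgroupOf.mp hz)))]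
      exact map_one _⟩ hh v hz, ← e]
    have hxz : (x : M)⁻¹ * z * x ∈ H := hconjH x hz
    rw [← hlamH _ hxz, ← hlamH z hz]
    have h1 := hm ⟨z, D.HK hz⟩ (mem_subgroupOf.2 hz)
    rw [hlam', hlam'] at h1
    simpa using h1
  have hidx : N'.index = C.relIndex U := by
    show (H ⊔ CM).relIndex (derivedIn M) = _
    rw [← subgroupOf_sup hHM ((S.toData.C_le S.chief).trans (U_le_M S.hP)), derivedIn,
      relIndex_subgroupOf M.commutator_le_self, S.relIndex_HC]
  haveI hCn : CM.Normal := S.inv_C.normal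
  refine ⟨θ, hθ, by rw [hθdef, indLin_one, hidx], fun a ha => ?_, fun e => ?_, fun g hg => ?_⟩
  · refine indLin_ker N' lam' fun x => ?_
    have hx : ((x⁻¹ * a * x : derivedIn M) : M) ∈ CM := by
      simpa using hCn.conj_mem (a : M) ha (x : M)⁻¹
    exact ⟨mem_subgroupOf.2 (mem_sup_right hx), by rw [hlam']; exact hlamC' _ hx⟩
  · have h := congrFun e 1
    rw [hθdef, indLin_one, hidx] at h
    have := S.toData.two_le_u S.chief
    have : C.relIndex U = 1 := by exact_mod_cast h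
    omega
  · funext k
    have hgH : ∀ {y : M}, y ∈ H → g⁻¹ * y * g ∈ H := fun hy => hconjH g hy
    have hgC : ∀ {y : M}, y ∈ CM → g⁻¹ * y * g ∈ CM := fun {y} hy => by
      simpa using hCn.conj_mem y hy g⁻¹
    have hgN : ∀ y : M, y ∈ H ⊔ CM → g * y * g⁻¹ ∈ H ⊔ CM ∧ ev lam (g * y * g⁻¹) = ev lam y := by
      intro y hy
      obtain ⟨h, hh, c, hc, rfl⟩ := D.mem_sup.1 hy
      have hh' : g * h * g⁻¹ ∈ H := D.conjH g hh
      have hc' : g * c * g⁻¹ ∈ CM := hCn.conj_mem c hc g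
      have e : g * (h * c) * g⁻¹ = (g * h * g⁻¹) * (g * c * g⁻¹) := by group
      refine ⟨e ▸ mul_mem_sup hh' hc', ?_⟩
      rw [e, ev_mul _ (mem_sup_left hh') (mem_sup_right hc'), ev_mul _ (mem_sup_left hh) (mem_sup_right hc),
        hlamH _ hh', hlamH _ hh, hlamC' _ hc', hlamC' _ hc, hχW g hg h hh]
    let cj : derivedIn M ≃ derivedIn M :=
      (MulAut.conjNormal g : MulAut (derivedIn M)).toEquiv
    rw [hθdef, indLin, indFun, indFun]
    refine congrArg _ ((Equiv.sum_comp cj _).symm.trans (Finset.sum_congr rfl fun x _ => ?_))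
    have e : (((cj x)⁻¹ * ⟨g * k * g⁻¹, (Noncoherent.derivedIn_normal M).conj_mem (k : M) k.2 g⟩ *
        cj x : derivedIn M) : M) = g * ((x⁻¹ * k * x : derivedIn M) : M) * g⁻¹ := by
      simp [cj, mul_assoc]
    by_cases hx : (x⁻¹ * k * x : derivedIn M) ∈ N'
    · have hx' : ((cj x)⁻¹ * ⟨g * k * g⁻¹, (Noncoherent.derivedIn_normal M).conj_mem (k : M) k.2 g⟩ *
          cj x : derivedIn M) ∈ N' := by
        rw [mem_subgroupOf, e]; exact (hgN _ hx).1
      rw [CharTheory.IndBasic.extendByZero_of_mem N' _ hx',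
        CharTheory.IndBasic.extendByZero_of_mem N' _ hx, hlam', hlam', e]
      exact congrArg Units.val (hgN _ hx).2
    · rw [CharTheory.IndBasic.extendByZero_of_notMem N' _ hx,
        CharTheory.IndBasic.extendByZero_of_notMem N' _ fun h => hx ?_]
      rw [mem_subgroupOf, e] at h
      rw [mem_subgroupOf]
      have := (hgN _ h).1
      obtain ⟨h1, hh1, c1, hc1, e1⟩ := D.mem_sup.1 h
      have e2 : ((x⁻¹ * k * x : derivedIn M) : M) = (g⁻¹ * h1 * g) * (g⁻¹ * c1 * g) := by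
        rw [show g⁻¹ * h1 * g * (g⁻¹ * c1 * g) = g⁻¹ * (h1 * c1) * g by group, ← e1]; group
      exact e2 ▸ mul_mem_sup (hgH hh1) (hgC hc1)

variable {μ : (↥(W₁ ⊔ W₂) →* ℂˣ) → ↥M → ℂ} {δ : (↥(W₁ ⊔ W₂) →* ℂˣ) → ℂ}
  (hμ : MuData M W₁ W₂ μ δ)
include hμ

/-- One column is induced from the character of degree `u`. -/
theorem Struct.exists_col : ∃ j ∈ rightSet W₁ W₂, j ≠ 1 ∧
    colSum μ j 1 = (Nat.card W₁ : ℂ) * (C.relIndex U : ℂ) ∧
    ∀ x : M, (x : G) ∈ C → colSum μ j x = colSum μ j 1 := by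
  classical
  haveI := Noncoherent.derivedIn_normal M
  haveI := Fintype.ofFinite (derivedIn M)
  obtain ⟨θ, hθ, hθ1, hθC, hθne, hθW⟩ := S.exists_theta
  have hs := setup_of S.hG S.hP
  set φ := indFun (derivedIn M) θ
  have hcl : IsClassFunction M φ :=
    char_isClassFunction (isCharacter_indFun _ (isCharacter_of_isIrr hθ))
  have hidx : (derivedIn M).index = Nat.card W₁ := Noncoherent.index_derivedIn S.hP
  have hres : (fun y : derivedIn M => φ y) = (Nat.card W₁ : ℂ) • θ := by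
    funext y
    show indFun (derivedIn M) θ y = (Nat.card W₁ : ℂ) * θ y
    rw [Induce.indFun_apply_normal (derivedIn M) θ y,
      Finset.sum_congr rfl (g := fun _ : M => θ y) fun x _ => ?_, Finset.sum_const, Finset.card_univ,
      nsmul_eq_mul, ← Nat.card_eq_fintype_card, ← (derivedIn M).card_mul_index, Nat.cast_mul,
      ← mul_assoc, ← mul_assoc, inv_mul_cancel₀ natCard_ne_zero, one_mul, hidx]
    obtain ⟨k, hk, w, hw, e⟩ := PrimeFrob.exists_factor hs x⁻¹
    have hf : PrimeFrob.Fix (derivedIn M) θ x⁻¹ := by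
      rw [e]
      exact PrimeFrob.fix_mul (PrimeFrob.fix_of_mem hs hθ hk) (hθW w hw)
    have := congrFun hf y
    refine Eq.trans ?_ this
    exact congrArg θ (Subtype.ext (by simp [Induce.conjHom]))
  have hnorm : classInner φ φ = (Nat.card W₁ : ℂ) := by
    rw [frobenius_reciprocity (derivedIn M) θ hcl, hres, classInner_smul_right,
      classInner_isIrr_self hθ, mul_one, Complex.conj_natCast]
  have hnirr : ¬ IsIrrCharacter M φ := fun hi => by
    have h := classInner_isIrr_self hi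
    rw [hnorm, Nat.cast_eq_one] at h
    exact S.hq.ne_one h
  have hmem : φ ∈ calS M := by
    rw [Noncoherent.calS_eq_above S.hcore]
    exact ⟨θ, hθ, hθne, fun a ha => by rw [show a = 1 from Subtype.ext (mem_bot.mp ha)], rfl⟩
  obtain ⟨j, hj, hj1, e⟩ := hμ.red_eq_col S.hG S.hP hmem hnirr
  refine ⟨j, hj, hj1, ?_, fun x hx => ?_⟩
  · rw [← e, show φ 1 = indFun (derivedIn M) θ 1 from rfl, indFun_one, hidx, hθ1]
  · haveI := S.inv_C.normal
    rw [← e]
    exact (trivial_on_iff (derivedIn M) (C.subgroupOf M) (subgroupOf_le_of_le S.inv_C.le) hθ).mpr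
      (fun a ha => hθC a ha) x hx

/-- All columns lie in `S(C)`. -/
theorem Struct.col_C {j : ↥(W₁ ⊔ W₂) →* ℂˣ} (hj : j ∈ rightSet W₁ W₂) (hj1 : j ≠ 1) :
    colSum μ j ∈ inducedIrrAbove (derivedIn M) (C.subgroupOf M) := by
  classical
  haveI := Fintype.ofFinite (↥(W₁ ⊔ W₂) →* ℂˣ)
  haveI := Noncoherent.derivedIn_normal M
  haveI := S.inv_C.normal
  have hW := S.hP.selfNormalizing
  obtain ⟨j₀, hj₀, hj₀1, -, hC⟩ := S.exists_col hμ
  refine (mem_above_iff (derivedIn M) (C.subgroupOf M) (subgroupOf_le_of_le S.inv_C.le)).mpr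
    ⟨Noncoherent.calS_eq_above S.hcore ▸ hμ.col_mem S.hG S.hP hj hj1, fun c hc => ?_⟩
  obtain ⟨m, hm, rfl⟩ := Noncoherent.exists_pow_eq hW S.hp hj₀ hj₀1 hj
  have hm0 : m ≠ 0 := fun e => hj1 (by subst e; exact MonoidHom.ext fun w => by simp)
  obtain ⟨k, hk, hkm⟩ := Noncoherent.exists_coprime_modEq (Nat.card_pos (α := G)).ne'
    (card_subgroup_dvd_card W₂) (k := m)
    (Nat.Coprime.symm ((Nat.Prime.coprime_iff_not_dvd S.hp).2 fun h =>
      hm0 (Nat.eq_zero_of_dvd_of_lt h hm)))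
  have hjk : j₀ ^ k = j₀ ^ m := MonoidHom.ext fun w => by
    have hjw : j₀ w ^ Nat.card W₂ = 1 := by
      rw [← MonoidHom.pow_apply, Noncoherent.pow_prime_eq_one hW hj₀]; rfl
    rw [MonoidHom.pow_apply, MonoidHom.pow_apply]
    exact pow_eq_pow_iff_modEq.2 (hkm.of_dvd (orderOf_dvd_of_pow_eq_one hjw))
  obtain ⟨h1, -⟩ := Noncoherent.mu_comp_pow S.hG.1 S.hP hμ j₀ hk
  rw [hjk] at h1
  have hcd : (c : G) ∈ ⁅M, M⁆ := S.inv_C.le hc
  rw [hμ.col_apply_derived S.hG S.hP _ hcd, hμ.col_apply_derived S.hG S.hP _ (x := (1 : M)) (by simp),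
    ← h1]
  show _ * μ j₀ (c ^ k) = _ * μ j₀ ((1 : M) ^ k)
  rw [one_pow]
  have h3 := hC (c ^ k) (by rw [SubmonoidClass.coe_pow]; exact pow_mem (mem_subgroupOf.mp hc) k)
  rwa [hμ.col_apply_derived S.hG S.hP j₀ (by rw [SubmonoidClass.coe_pow]; exact pow_mem hcd k),
    hμ.col_apply_derived S.hG S.hP _ (x := (1 : M)) (by simp)] at h3

/-- The constants are `d = u` and `δ = 1`. -/
theorem Struct.exists_const : ∃ n : ℤ,
    Noncoherent.MuConst M W₁ W₂ μ δ (C.relIndex U) 1 n ∧ 2 ≤ n := by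
  classical
  haveI := Fintype.ofFinite (↥(W₁ ⊔ W₂) →* ℂˣ)
  obtain ⟨d, ε, n, hc⟩ := Noncoherent.exists_muConst S.hG.1 S.hP S.hp hμ
  obtain ⟨j, hj, hj1, hdeg, -⟩ := S.exists_col hμ
  have hd : d = C.relIndex U := by
    rw [Noncoherent.colSum_eq, Finset.sum_apply, Finset.sum_congr rfl fun a ha =>
      hc.degree a (Noncoherent.mem_lefts.1 ha) j hj hj1, Finset.sum_const,
      Noncoherent.card_lefts S.hP.selfNormalizing, nsmul_eq_mul] at hdeg
    exact_mod_cast mul_left_cancel₀ natCard_ne_zero hdeg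
  subst hd
  have hq3 := S.toData.three_le S.hP.W₁_ne
  have hmod : (Nat.card W₁ : ℤ) ∣ (C.relIndex U : ℤ) - 1 := by
    have := (Nat.modEq_iff_dvd.mp S.u_modEq.symm)
    simpa using this
  have hε : ε = 1 := by
    refine hc.sign.resolve_right fun e => ?_
    have h2 : (Nat.card W₁ : ℤ) ∣ 2 := by
      have : (C.relIndex U : ℤ) - 1 = n * Nat.card W₁ - 2 := by rw [hc.eq, e]; ring
      rw [this] at hmod
      exact (dvd_sub_right (dvd_mul_left _ n)).mp hmod
    have := Int.le_of_dvd two_pos h2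
    omega
  subst hε
  refine ⟨n, hc, ?_⟩
  have hu := S.toData.two_le_u S.chief
  have he := hc.eq
  have hn1 : 1 ≤ n := by
    by_contra hlt
    push Not at hlt
    have : n * (Nat.card W₁ : ℤ) ≤ 0 := Int.mul_nonpos_of_nonpos_of_nonneg (by omega) (by positivity)
    omega
  rcases eq_or_lt_of_le hn1 with e | e
  · exfalso
    obtain ⟨a, ha⟩ := S.u_odd
    obtain ⟨b, hb⟩ := S.toData.odd W₁
    rw [← e, one_mul] at he
    omega
  · omega

end Cfsg.Agent.OddChar.TypeP.TypeThree
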