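import Cfsg.Agent.OddChar.TypeP.TypeThree.Structure
import Cfsg.Agent.OddChar.TypeP.Dichotomy

/-!
# Peterfalvi (11.7): `H` is elementary abelian of order `p ^ q`
-/

set_option autoImplicit false
set_option linter.unusedSectionVars false
set_option linter.style.haveILetI false

namespace Cfsg.Agent.OddChar.TypeP.TypeThree

open Cfsg Subgroup
open Cfsg.Agent.OddLocal
open scoped commutatorElement

universe u

variable {G : Type u} [Group G] [Fintype G] {M W₁ U W₂ H₀ C : Subgroup G} [Fintype M]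

section

variable (d : Data M W₁ U W₂) (cd : ChiefData M W₁ U W₂ H₀ C (Nat.card W₂))
include d cd

theorem Data.inf_centralizer_le : fittingHallOf M ⊓ centralizer (U : Set G) ≤ H₀ := by
  set H := fittingHallOf M with hH
  have hH0n : H ≤ normalizer (H₀ : Set G) := (H_le_M M).trans cd.normal
  have hU0 : U ≤ normalizer (H₀ : Set G) := (U_le_M d.hP).trans cd.normal
  set F := secFix U H H₀ hH0n
  have hFH : F ≤ H := fun x hx => hx.1
  have hFn : M ≤ normalizer (F : Set G) := by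
    refine M_le_of_parts d.hP
      (le_normalizer_between cd.abelian (le_secFix hH0n cd.le hU0) hFH) (fun x hx => ?_)
      (fun x hx => ?_)
    · exact mem_normalizer_secFix (le_normalizer hx) (M_le_normalizer_H M (U_le_M d.hP hx)) (hU0 hx)
    · exact mem_normalizer_secFix (d.hP.U_normal hx) (M_le_normalizer_H M (W₁_le_M d.hP hx))
        (cd.normal (W₁_le_M d.hP hx))
  have hcF : H ⊓ centralizer (U : Set G) ≤ F := fun x hx => ⟨(mem_inf.mp hx).1, fun u hu => by
    rw [mem_centralizer_iff.mp (mem_inf.mp hx).2 u hu, mul_inv_cancel_right, mul_inv_cancel]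
    exact one_mem _⟩
  rcases cd.minimal F hFn (le_secFix hH0n cd.le hU0) hFH with e | e
  · exact e ▸ hcF
  · refine absurd (le_antisymm (d.C_le cd) fun u hu => ?_) cd.cent_ne
    have h1 : u ∈ sectionCentralizer U H H₀ := ⟨hu, fun h hh => (e.ge hh).2 u hu⟩
    exact (cd.cent.symm ▸ h1 : u ∈ (C : Set G))

theorem Data.inf_centralizer_eq : fittingHallOf M ⊓ centralizer (U : Set G) = H₀ := by
  set H := fittingHallOf M with hH
  have f := FrobeniusFormula.formula (frobHyp d.hP)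
  unfold FrobeniusFormula.Formula at f
  rw [← hH, H_inf_centralizer_W₁ d.hP, FrobeniusFormula.centralizer_sup] at f
  have hb : H ⊓ (centralizer (U : Set G) ⊓ centralizer (W₁ : Set G)) = ⊥ := by
    refine le_bot_iff.mp (le_trans (le_inf ?_ ?_) (d.W₂_inf cd).le)
    · exact (inf_le_inf_left H inf_le_left).trans (d.inf_centralizer_le cd)
    · rw [← H_inf_centralizer_W₁ d.hP]
      exact inf_le_inf_left H inf_le_right
  rw [hb, card_bot, one_pow, one_mul, cd.card, mul_comm (Nat.card H₀)] at f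
  exact eq_of_le_of_card_ge (d.inf_centralizer_le cd)
    (Nat.eq_of_mul_eq_mul_left (pow_pos d.hp.pos _) f).le

/-- `H₀ = H'`. -/
theorem Data.H₀_eq : H₀ = ⁅fittingHallOf M, fittingHallOf M⁆ := by
  classical
  set H := fittingHallOf M with hH
  refine le_antisymm ?_ (d.derived_H_le cd)
  haveI : Fintype U := Fintype.ofFinite _
  have hUH : U ≤ normalizer (H : Set G) := (U_le_M d.hP).trans (M_le_normalizer_H M)
  let c : U → H →* H := fun u => conjEnd H u (hUH u.2)
  let φ : H →* Abelianization H := Abelianization.of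
  let θ : H →* Abelianization H :=
    { toFun := fun h => ∏ u : U, φ (c u h)
      map_one' := Finset.prod_eq_one fun u _ => by simp
      map_mul' := fun a b => by simp only [map_mul, Finset.prod_mul_distrib] }
  have hθapply : ∀ h, θ h = ∏ u : U, φ (c u h) := fun _ => rfl
  have hker : ∀ (v : U) (h : H), θ (c v h) = θ h := fun v h => by
    rw [hθapply, hθapply]
    refine Fintype.prod_equiv (Equiv.mulRight v) _ _ fun u => congrArg φ (Subtype.ext ?_)
    show (u : G) * ((v : G) * h * (v : G)⁻¹) * (u : G)⁻¹ = ((u : G) * v) * h * ((u : G) * v)⁻¹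
    group
  have hθ : ∀ h : H, θ h = 1 := by
    have hle : ⁅H, U⁆ ≤ θ.ker.map H.subtype := by
      rw [commutator_le]
      intro a ha u hu
      refine ⟨⟨a, ha⟩ * (c ⟨u, hu⟩ ⟨a, ha⟩)⁻¹, ?_, ?_⟩
      · rw [SetLike.mem_coe, MonoidHom.mem_ker, map_mul, map_inv, hker, mul_inv_cancel]
      · show a * (u * a * u⁻¹)⁻¹ = ⁅a, u⁆
        rw [commutatorElement_def]; group
    intro h
    replace hle : H ≤ θ.ker.map H.subtype := (d.comm_eq cd).ge.trans hle
    obtain ⟨y, hy, e⟩ := hle h.2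
    exact Subtype.ext (e : (y : G) = h) ▸ hy
  rw [← d.inf_centralizer_eq cd]
  intro x hx
  obtain ⟨hxH, hxU⟩ := mem_inf.mp hx
  have h1 : (φ ⟨x, hxH⟩) ^ Nat.card U = 1 := by
    rw [← hθ ⟨x, hxH⟩, hθapply, Finset.prod_congr rfl (g := fun _ : U => φ ⟨x, hxH⟩) fun u _ =>
      congrArg φ (Subtype.ext (by
        show (u : G) * x * (u : G)⁻¹ = x
        rw [mem_centralizer_iff.mp hxU u u.2, mul_inv_cancel_right])),
      Finset.prod_const, Finset.card_univ, Nat.card_eq_fintype_card]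
  have h2 : φ ⟨x, hxH⟩ = 1 := by
    refine orderOf_eq_one_iff.mp (Nat.eq_one_of_dvd_coprimes (coprime_H_U d.hP)
      ((orderOf_map_dvd φ _).trans (orderOf_dvd_natCard _)) (orderOf_dvd_of_pow_eq_one h1))
  have h3 : (⟨x, hxH⟩ : H) ∈ commutator H := by
    rwa [← Abelianization.ker_of, MonoidHom.mem_ker]
  rw [← map_subtype_commutator]
  exact ⟨_, h3, rfl⟩

theorem Data.H₀_central : ∀ a ∈ fittingHallOf M, ∀ z ∈ H₀, a * z = z * a := by
  set H := fittingHallOf M with hH
  have hU : ⁅U, H₀⁆ = ⊥ := by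
    rw [commutator_eq_bot_iff_le_centralizer, ← d.inf_centralizer_eq cd]
    exact le_centralizer_iff.mp inf_le_right
  have h2 : ⁅⁅H₀, H⁆, U⁆ = ⊥ := by
    refine le_bot_iff.mp ((commutator_mono ?_ le_rfl).trans_eq (commutator_comm U H₀ ▸ hU))
    exact le_normalizer_iff_commutator_le_left.mp ((H_le_M M).trans cd.normal)
  have h3 := commutator_commutator_eq_bot_of_rotate (H₁ := H) (H₂ := U) (H₃ := H₀)
    (by rw [hU, commutator_bot_left]) h2
  rw [hH, d.comm_eq cd, ← hH, commutator_eq_bot_iff_le_centralizer] at h3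
  exact fun a ha z hz => (mem_centralizer_iff.mp (h3 ha) z hz).symm

/-- The commutator with a fixed element, as a map into `H₀`. -/
def Data.commHom (b : fittingHallOf M) : fittingHallOf M →* H₀ where
  toFun a := ⟨⁅(a : G), (b : G)⁆, d.derived_H_le cd (commutator_mem_commutator a.2 b.2)⟩
  map_one' := Subtype.ext (by simp)
  map_mul' a a' := Subtype.ext (by
    have hz : ⁅(a' : G), (b : G)⁆ ∈ H₀ := d.derived_H_le cd (commutator_mem_commutator a'.2 b.2)
    have hz' : ⁅(a : G), (b : G)⁆ ∈ H₀ := d.derived_H_le cd (commutator_mem_commutator a.2 b.2)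
    show ⁅(a : G) * a', (b : G)⁆ = ⁅(a : G), (b : G)⁆ * ⁅(a' : G), (b : G)⁆
    rw [commutatorElement_mul_left_eq_conj_mul, d.H₀_central cd a a.2 _ hz, mul_inv_cancel_right]
    exact d.H₀_central cd _ (cd.le hz) _ hz')

theorem Data.commHom_apply (a b : fittingHallOf M) :
    (d.commHom cd b a : G) = ⁅(a : G), (b : G)⁆ := rfl

theorem Data.commHom_swap (a b : fittingHallOf M) : d.commHom cd a b = (d.commHom cd b a)⁻¹ :=
  Subtype.ext (by rw [InvMemClass.coe_inv, d.commHom_apply, d.commHom_apply, commutatorElement_inv])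

/-- Commutators are fixed by `U`. -/
theorem Data.comm_conj {u a b : G} (hu : u ∈ U) (ha : a ∈ fittingHallOf M)
    (hb : b ∈ fittingHallOf M) : ⁅u * a * u⁻¹, u * b * u⁻¹⁆ = ⁅a, b⁆ := by
  have h : ⁅a, b⁆ ∈ fittingHallOf M ⊓ centralizer (U : Set G) := by
    rw [d.inf_centralizer_eq cd]
    exact d.derived_H_le cd (commutator_mem_commutator ha hb)
  calc ⁅u * a * u⁻¹, u * b * u⁻¹⁆ = u * ⁅a, b⁆ * u⁻¹ := by simp [commutatorElement_def, mul_assoc]
    _ = ⁅a, b⁆ := by
      rw [mem_centralizer_iff.mp (mem_inf.mp h).2 u hu, mul_inv_cancel_right]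

theorem Data.comm_pow (a b : fittingHallOf M) : d.commHom cd b a ^ Nat.card W₂ = 1 := by
  rw [← map_pow]
  refine Subtype.ext ?_
  rw [d.commHom_apply, OneMemClass.coe_one, commutatorElement_eq_one_iff_commute]
  exact (d.H₀_central cd b b.2 _ (by simpa using cd.pow a a.2)).symm

theorem Data.commute_galois (gd : GaloisData M W₁ U W₂ H₀ C (Nat.card W₂)) :
    ∀ a ∈ fittingHallOf M, ∀ b ∈ fittingHallOf M, a * b = b * a := by
  classical
  set H := fittingHallOf M with hH
  obtain ⟨F, _, _, f, ψ, hcard, hsurj, hf0, hadd, hψ, -, -, -⟩ := gd.field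
  choose pre hpre hfpre using hsurj
  haveI := Fact.mk d.hp
  haveI : CharP F (Nat.card W₂) := charP_of_card_eq_prime_pow hcard
  letI : CommGroup H₀ :=
    { (inferInstance : Group H₀) with
      mul_comm := fun x y => Subtype.ext (d.H₀_central cd _ (cd.le x.2) _ y.2) }
  -- dependence only on the classes modulo `H₀`
  have hwd : ∀ a a' b : H, f a = f a' → d.commHom cd b a = d.commHom cd b a' := by
    intro a a' b e
    have h1 : ((a⁻¹ * a' : H) : G) ∈ H₀ := by
      refine (hf0 _ (a⁻¹ * a').2).mp ?_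
      have := hadd a a.2 ((a⁻¹ * a' : H) : G) (a⁻¹ * a').2
      rw [show (a : G) * ((a⁻¹ * a' : H) : G) = (a' : G) by simp, e] at this
      exact left_eq_add.mp this
    have h2 : d.commHom cd b (a⁻¹ * a') = 1 := Subtype.ext (by
      rw [d.commHom_apply, OneMemClass.coe_one, commutatorElement_eq_one_iff_commute]
      exact (d.H₀_central cd b b.2 _ h1).symm)
    rw [map_mul, map_inv, inv_mul_eq_one] at h2
    exact h2
  have hwd' : ∀ a b b' : H, f b = f b' → d.commHom cd b a = d.commHom cd b' a := fun a b b' e => by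
    rw [d.commHom_swap cd b a, d.commHom_swap cd b' a, hwd b b' a e]
  let P : F → H := fun x => ⟨pre x, hpre x⟩
  have hP : ∀ x, f (P x : G) = x := hfpre
  have hPadd : ∀ x y, f (P (x + y) : G) = f ((P x * P y : H) : G) := fun x y => by
    rw [hP, Subgroup.coe_mul, hadd _ (P x).2 _ (P y).2, hP, hP]
  let c : F → F → Additive H₀ := fun x y => Additive.ofMul (d.commHom cd (P y) (P x))
  have hl : ∀ x y z, c (x + y) z = c x z + c y z := fun x y z => by
    simp only [c, ← ofMul_mul, ← map_mul]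
    exact congrArg _ (hwd _ _ _ (hPadd x y))
  have halt : ∀ x, c x x = 0 := fun x => by
    rw [← ofMul_one]
    refine congrArg Additive.ofMul (Subtype.ext ?_)
    rw [d.commHom_apply, commutatorElement_self, OneMemClass.coe_one]
  have hr : ∀ x y z, c x (y + z) = c x y + c x z := fun x y z => by
    simp only [c, d.commHom_swap cd _ (P x), ofMul_inv, ← neg_add]
    exact congrArg Neg.neg (hl y z x)
  have hD : ∀ v : Additive H₀, v ∈ Set.range (fun xy : F × F => c xy.1 xy.2) →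
      Nat.card W₂ • v = 0 := by
    rintro - ⟨⟨x, y⟩, rfl⟩
    simp only [c, ← ofMul_pow, d.comm_pow cd, ofMul_one]
  -- restrict to the subgroup killed by `p`
  let D : AddSubgroup (Additive H₀) :=
    (DistribSMul.toAddMonoidHom (Additive H₀) (Nat.card W₂)).ker
  let c' : F → F → D := fun x y => ⟨c x y, hD _ ⟨(x, y), rfl⟩⟩
  have hUH : U ≤ normalizer (H : Set G) := (U_le_M d.hP).trans (M_le_normalizer_H M)
  have key := alt_invariant_eq_zero (F := F) (p := Nat.card W₂) (q := Nat.card W₁) hcard (d.odd W₁)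
    (D := D) (fun v => Subtype.ext v.2) c' (fun x y z => Subtype.ext (hl x y z))
    (fun x y z => Subtype.ext (hr x y z)) (fun x => Subtype.ext (halt x)) (ψ '' (U : Set G))
    (by rintro - ⟨u, hu, rfl⟩; exact (hψ u hu).1)
    (by
      rintro - ⟨u, hu, rfl⟩ x y
      refine Subtype.ext ?_
      let cu : H → H := fun a => conjEnd H u (hUH hu) a
      have e : ∀ z, f (P (ψ u * z) : G) = f (cu (P z) : G) := fun z => by
        show _ = f (u * (P z : G) * u⁻¹)
        rw [hP, (hψ u hu).2 _ (P z).2, hP]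
      simp only [c', c]
      rw [hwd _ _ _ (e x), hwd' _ _ _ (e y)]
      refine congrArg _ (Subtype.ext ?_)
      rw [d.commHom_apply, d.commHom_apply]
      exact d.comm_conj cd hu (P x).2 (P y).2)
    (by
      intro N hN
      let N' : Subgroup G :=
        { carrier := {h | h ∈ H ∧ f h ∈ N}
          one_mem' := ⟨one_mem _, by rw [(hf0 1 (one_mem _)).mpr (one_mem _)]; exact N.zero_mem⟩
          mul_mem' := by
            rintro a b ⟨ha, ha'⟩ ⟨hb, hb'⟩
            exact ⟨mul_mem ha hb, by rw [hadd a ha b hb]; exact N.add_mem ha' hb'⟩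
          inv_mem' := by
            rintro a ⟨ha, ha'⟩
            refine ⟨inv_mem ha, ?_⟩
            have h := hadd a ha a⁻¹ (inv_mem ha)
            rw [mul_inv_cancel, (hf0 1 (one_mem _)).mpr (one_mem _)] at h
            rw [neg_eq_of_add_eq_zero_right h.symm |>.symm]
            exact N.neg_mem ha' }
      have h0 : H₀ ≤ N' := fun z hz =>
        ⟨cd.le hz, by rw [(hf0 z (cd.le hz)).mpr hz]; exact N.zero_mem⟩
      have hn : U ≤ normalizer (N' : Set G) := fun u hu => mem_normalizer_fintype fun a ha =>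
        ⟨(mem_normalizer_iff.mp (hUH hu) a).mp ha.1, by
          rw [(hψ u hu).2 a ha.1]; exact hN _ ⟨u, hu, rfl⟩ _ ha.2⟩
      rcases gd.irreducible N' hn h0 (fun a ha => ha.1) with e | e
      · left
        refine (AddSubgroup.eq_bot_iff_forall N).mpr fun x hx => ?_
        have : (P x : G) ∈ N' := ⟨(P x).2, by rw [hP]; exact hx⟩
        rw [e] at this
        rw [← hP x]
        exact (hf0 _ (P x).2).mpr this
      · right
        refine (AddSubgroup.eq_top_iff' N).mpr fun x => ?_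
        rw [← hP x]
        exact ((e.ge (P x).2) : (P x : G) ∈ N').2)
  intro a ha b hb
  have h1 : d.commHom cd (P (f b)) (P (f a)) = 1 := by
    have := congrArg Subtype.val (key (f a) (f b))
    exact Additive.ofMul.injective (this.trans ofMul_one.symm)
  rw [hwd _ ⟨a, ha⟩ _ (hP (f a)), hwd' _ _ ⟨b, hb⟩ (hP (f b))] at h1
  exact commutatorElement_eq_one_iff_commute.mp
    ((d.commHom_apply cd ⟨a, ha⟩ ⟨b, hb⟩).symm.trans (congrArg Subtype.val h1))

theorem Data.commute_split {H₁ C₁ : Subgroup G} {a : ℕ}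
    (sd : SplitData M W₁ U W₂ H₀ C H₁ C₁ (Nat.card W₂) a) :
    ∀ x ∈ fittingHallOf M, ∀ y ∈ fittingHallOf M, x * y = y * x := by
  classical
  set H := fittingHallOf M with hH
  haveI := Fact.mk d.hp
  set p := Nat.card W₂
  obtain ⟨x₀, hx₀, hx₀'⟩ : ∃ x₀ ∈ H₁, x₀ ∉ H₀ := by
    by_contra hcon
    push Not at hcon
    have := relIndex_eq_one.mpr (show H₁ ≤ H₀ from hcon)
    rw [sd.line] at this
    exact d.hp.ne_one this
  have hH0n : H₁ ≤ normalizer (H₀ : Set G) := (sd.le.trans (H_le_M M)).trans cd.normal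
  have hgen : H₁ = H₀ ⊔ zpowers x₀ := by
    have h1 : H₀ ⊔ zpowers x₀ ≤ H₁ := sup_le sd.le₀ ((zpowers_le).mpr hx₀)
    refine le_antisymm (relIndex_eq_one.mp ?_) h1
    have h2 := relIndex_mul_relIndex H₀ _ H₁ le_sup_left h1
    rw [sd.line] at h2
    refine (d.hp.eq_one_or_self_of_dvd _ ⟨_, h2.symm.trans (mul_comm _ _)⟩).resolve_right fun e => ?_
    rw [e] at h2
    have h3 : H₀.relIndex (H₀ ⊔ zpowers x₀) = 1 :=
      Nat.eq_of_mul_eq_mul_right d.hp.pos (h2.trans (one_mul _).symm)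
    exact hx₀' (relIndex_eq_one.mp h3 (mem_sup_right (mem_zpowers x₀)))
  have hUH : U ≤ normalizer (H : Set G) := (U_le_M d.hP).trans (M_le_normalizer_H M)
  have hWH : W₁ ≤ normalizer (H : Set G) := (W₁_le_M d.hP).trans (M_le_normalizer_H M)
  have hW0 : W₁ ≤ normalizer (H₀ : Set G) := (W₁_le_M d.hP).trans cd.normal
  let xw : W₁ → H := fun w =>
    ⟨(w : G) * x₀ * (w : G)⁻¹, (mem_normalizer_iff.mp (hWH w.2) _).mp (sd.le hx₀)⟩
  suffices hall : ∀ w v : W₁, d.commHom cd (xw v) (xw w) = 1 by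
    have hgenH : H ≤ H₀ ⊔ closure (Set.range fun w : W₁ => (xw w : G)) := by
      refine le_trans sd.span.ge ?_
      refine iSup₂_le fun w hw => ?_
      rw [hgen, Subgroup.map_sup, MonoidHom.map_zpowers]
      refine sup_le (fun z hz => mem_sup_left ?_)
        (zpowers_le.mpr (mem_sup_right (subset_closure ⟨⟨w, hw⟩, rfl⟩)))
      obtain ⟨t, ht, rfl⟩ := hz
      exact (mem_normalizer_iff.mp (hW0 hw) t).mp ht
    have hcen : ∀ w : W₁, H ≤ centralizer ({(xw w : G)} : Set G) := fun w => by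
      refine hgenH.trans (sup_le (fun z hz => ?_) ((closure_le _).mpr ?_))
      · exact mem_centralizer_singleton_iff.mpr (d.H₀_central cd _ (xw w).2 z hz).symm
      · rintro - ⟨v, rfl⟩
        exact mem_centralizer_singleton_iff.mpr (commutatorElement_eq_one_iff_commute.mp
          ((d.commHom_apply cd (xw v) (xw w)).symm.trans (congrArg Subtype.val (hall v w))))
    intro x hx y hy
    have h2 : H ≤ centralizer ({x} : Set G) := by
      refine hgenH.trans (sup_le (fun z hz => ?_) ((closure_le _).mpr ?_))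
      · exact mem_centralizer_singleton_iff.mpr (d.H₀_central cd x hx z hz).symm
      · rintro - ⟨v, rfl⟩
        exact mem_centralizer_singleton_iff.mpr (mem_centralizer_singleton_iff.mp (hcen v hx)).symm
    exact (mem_centralizer_singleton_iff.mp (h2 hy)).symm
  intro w v
  by_contra hne
  -- the exponent by which `b ∈ U` acts on the line
  have hk : ∀ b ∈ U, ∃ k : ℤ, ∃ z ∈ H₀, b * x₀ * b⁻¹ = x₀ ^ k * z := by
    intro b hb
    have h1 : b * x₀ * b⁻¹ ∈ zpowers x₀ ⊔ H₀ := by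
      rw [sup_comm, ← hgen]
      exact (mem_normalizer_iff.mp (sd.normal hb) x₀).mp hx₀
    obtain ⟨-, ⟨k, rfl⟩, z, hz, e⟩ :=
      (Basics.mem_sup_of_normalizing ((zpowers_le.mpr hx₀).trans hH0n)).mp h1
    exact ⟨k, z, hz, e⟩
  choose! k z hz hkz using hk
  have hxp : ∀ i : ℤ, x₀ ^ i ∈ H₀ → (i : ZMod p) = 0 := fun i hi => by
    rw [ZMod.intCast_zmod_eq_zero_iff_dvd]
    by_contra hnd
    refine hx₀' ?_
    obtain ⟨s, t, hst⟩ := (Nat.prime_iff_prime_int.mp d.hp).coprime_iff_not_dvd.mpr hnd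
    have e : x₀ = (x₀ ^ (p : ℤ)) ^ s * (x₀ ^ i) ^ t := by
      rw [← zpow_mul, ← zpow_mul, ← zpow_add,
        show (p : ℤ) * s + i * t = 1 by linear_combination hst, zpow_one]
    rw [e]
    refine mul_mem (zpow_mem ?_ s) (zpow_mem hi t)
    rw [zpow_natCast]
    exact cd.pow x₀ (sd.le hx₀)
  let K : G → ZMod p := fun b => (k b : ZMod p)
  have hinv : ∀ b ∈ U, K ((w : G)⁻¹ * b * w) * K ((v : G)⁻¹ * b * v) = 1 := by
    intro b hb
    have hconj : ∀ t : W₁, ∃ h : H, (h : G) ∈ H₀ ∧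
        conjEnd H b (hUH hb) (xw t) = xw t ^ k ((t : G)⁻¹ * b * t) * h := by
      intro t
      have ht : (t : G)⁻¹ * b * t ∈ U := (mem_normalizer_iff''.mp (d.hP.U_normal t.2) b).mp hb
      have hz' := (mem_normalizer_iff.mp (hW0 t.2) _).mp (hz _ ht)
      refine ⟨⟨_, cd.le hz'⟩, hz', Subtype.ext ?_⟩
      rw [Subgroup.coe_mul, Subgroup.coe_zpow]
      show b * ((t : G) * x₀ * (t : G)⁻¹) * b⁻¹ = ((t : G) * x₀ * (t : G)⁻¹) ^ k _ * _
      rw [conj_zpow]
      calc b * ((t : G) * x₀ * (t : G)⁻¹) * b⁻¹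
          = (t : G) * (((t : G)⁻¹ * b * t) * x₀ * ((t : G)⁻¹ * b * t)⁻¹) * (t : G)⁻¹ := by group
        _ = _ := by rw [hkz _ ht]; group
    obtain ⟨hw, hw0, ew⟩ := hconj w
    obtain ⟨hv, hv0, ev⟩ := hconj v
    have e1 : d.commHom cd (conjEnd H b (hUH hb) (xw v)) (conjEnd H b (hUH hb) (xw w)) =
        d.commHom cd (xw v) (xw w) :=
      Subtype.ext (d.comm_conj cd hb (xw w).2 (xw v).2)
    have hz1 : ∀ (h y : H), (h : G) ∈ H₀ → d.commHom cd y h = 1 := fun h y hh =>
      Subtype.ext (commutatorElement_eq_one_iff_commute.mpr (d.H₀_central cd y y.2 h hh).symm)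
    rw [ew, ev, map_mul, map_zpow, hz1 _ _ hw0, mul_one, d.commHom_swap cd _ (xw w), map_mul,
      map_zpow, hz1 _ _ hv0, mul_one, d.commHom_swap cd (xw v) (xw w), inv_zpow, inv_inj,
      ← zpow_mul] at e1
    have ho : orderOf (d.commHom cd (xw w) (xw v)) = p :=
      orderOf_eq_prime (d.comm_pow cd _ _) fun e => hne (by rw [d.commHom_swap, e, inv_one])
    have h2 : d.commHom cd (xw w) (xw v) ^
        (k ((v : G)⁻¹ * b * v) * k ((w : G)⁻¹ * b * w) - 1) = 1 := by
      rw [zpow_sub, zpow_one, e1, mul_inv_cancel]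
    rw [← orderOf_dvd_iff_zpow_eq_one, ho, ← ZMod.intCast_zmod_eq_zero_iff_dvd] at h2
    push_cast at h2
    linear_combination h2
  set g : G := (v : G)⁻¹ * w
  have hg : g ∈ W₁ := mul_mem (inv_mem v.2) w.2
  have hstep : ∀ b ∈ U, K b * K (g * b * g⁻¹) = 1 := fun b hb => by
    have h := hinv ((w : G) * b * (w : G)⁻¹) ((mem_normalizer_iff.mp (d.hP.U_normal w.2) b).mp hb)
    rwa [show (w : G)⁻¹ * ((w : G) * b * (w : G)⁻¹) * w = b by group,
      show (v : G)⁻¹ * ((w : G) * b * (w : G)⁻¹) * v = g * b * g⁻¹ by simp only [g]; group] at h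
  have hiter : ∀ n : ℕ, ∀ b ∈ U, K (g ^ (2 * n + 1) * b * (g ^ (2 * n + 1))⁻¹) * K b = 1 := by
    intro n
    induction n with
    | zero => intro b hb; rw [mul_comm]; simpa using hstep b hb
    | succ n ih =>
      intro b hb
      have hm : ∀ i : ℕ, g ^ i * b * (g ^ i)⁻¹ ∈ U := fun i =>
        (mem_normalizer_iff.mp (d.hP.U_normal (pow_mem hg i)) b).mp hb
      have hs : ∀ i : ℕ, g * (g ^ i * b * (g ^ i)⁻¹) * g⁻¹ = g ^ (i + 1) * b * (g ^ (i + 1))⁻¹ :=
        fun i => by rw [pow_succ']; group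
      have h1 := hstep _ (hm (2 * n + 1))
      have h2 := hstep _ (hm (2 * n + 2))
      rw [hs] at h1 h2
      rw [show 2 * (n + 1) + 1 = 2 * n + 2 + 1 by ring]
      set X := K (g ^ (2 * n + 1) * b * (g ^ (2 * n + 1))⁻¹)
      set Y := K (g ^ (2 * n + 1 + 1) * b * (g ^ (2 * n + 1 + 1))⁻¹)
      set Z := K (g ^ (2 * n + 2 + 1) * b * (g ^ (2 * n + 2 + 1))⁻¹)
      have h3 := ih b hb
      linear_combination (Z * Y) * h3 - (Z * K b) * h1 + h2
  obtain ⟨n, hn⟩ := d.odd W₁
  have hsq : ∀ b ∈ U, K b * K b = 1 := by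
    intro b hb
    have h := hiter n b hb
    have e : g ^ (2 * n + 1) = 1 := by
      rw [← hn]
      exact congrArg Subtype.val (pow_card_eq_one' (x := (⟨g, hg⟩ : W₁)))
    rwa [e, inv_one, one_mul, mul_one] at h
  have hC₁ : ∀ b ∈ U, b ∈ C₁ := by
    intro b hb
    have hb2 : ∃ t ∈ H₀, b * b * x₀ * (b * b)⁻¹ = x₀ * t := by
      have h0 : x₀ ∈ H := sd.le hx₀
      have e := hkz b hb
      have hzb : b * z b * b⁻¹ ∈ H₀ :=
        (mem_normalizer_iff.mp (cd.normal (U_le_M d.hP hb)) _).mp (hz b hb)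
      have hkk : x₀ ^ (k b * k b - 1) ∈ H₀ := by
        have h := hsq b hb
        have hdvd : (p : ℤ) ∣ k b * k b - 1 := by
          rw [← ZMod.intCast_zmod_eq_zero_iff_dvd]
          push_cast
          linear_combination h
        obtain ⟨s, hs⟩ := hdvd
        rw [hs, zpow_mul, zpow_natCast]
        exact zpow_mem (cd.pow x₀ h0) s
      have hzk : (z b : G) ^ k b ∈ H₀ := zpow_mem (hz b hb) _
      refine ⟨x₀ ^ (k b * k b - 1) * z b ^ k b * (b * z b * b⁻¹), mul_mem (mul_mem hkk hzk) hzb, ?_⟩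
      calc b * b * x₀ * (b * b)⁻¹ = (b * x₀ ^ k b * b⁻¹) * (b * z b * b⁻¹) := by
            rw [show b * b * x₀ * (b * b)⁻¹ = b * (b * x₀ * b⁻¹) * b⁻¹ by group, e]; group
        _ = (x₀ ^ k b * z b) ^ k b * (b * z b * b⁻¹) := by rw [← e, ← conj_zpow]
        _ = x₀ ^ (k b * k b) * z b ^ k b * (b * z b * b⁻¹) := by
            have hc : Commute (x₀ ^ k b) (z b) := d.H₀_central cd _ (zpow_mem h0 _) _ (hz b hb)
            rw [hc.mul_zpow, ← zpow_mul]
        _ = _ := by
            rw [show x₀ ^ (k b * k b) = x₀ * x₀ ^ (k b * k b - 1) by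
              rw [← zpow_one_add]; congr 1; ring]
            group
    obtain ⟨t, ht, e2⟩ := hb2
    have hb2' : b * b ∈ C₁ := by
      have hS : zpowers (b * b) ≤ normalizer (H₀ : Set G) :=
        zpowers_le.mpr (cd.normal (U_le_M d.hP (mul_mem hb hb)))
      have hH0 : H ≤ normalizer (H₀ : Set G) := (H_le_M M).trans cd.normal
      have hle : H₁ ≤ secFix (zpowers (b * b)) H H₀ hH0 := by
        rw [hgen]
        refine sup_le (le_secFix hH0 cd.le hS) (zpowers_le.mpr ⟨sd.le hx₀, ?_⟩)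
        rintro - ⟨i, rfl⟩
        induction i using Int.induction_on with
        | zero => simp
        | succ i ih =>
          obtain e3 : (b * b) ^ ((i : ℤ) + 1) * x₀ * ((b * b) ^ ((i : ℤ) + 1))⁻¹ * x₀⁻¹ =
              ((b * b) ^ (i : ℤ) * (x₀ * t * x₀⁻¹) * ((b * b) ^ (i : ℤ))⁻¹) *
                ((b * b) ^ (i : ℤ) * x₀ * ((b * b) ^ (i : ℤ))⁻¹ * x₀⁻¹) := by
            rw [← e2, zpow_add_one]; group
          show (b * b) ^ ((i : ℤ) + 1) * x₀ * ((b * b) ^ ((i : ℤ) + 1))⁻¹ * x₀⁻¹ ∈ H₀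
          rw [e3]
          refine mul_mem ((mem_normalizer_iff.mp (hS (zpow_mem (mem_zpowers _) _)) _).mp ?_) ih
          rwa [d.H₀_central cd _ (sd.le hx₀) _ ht, mul_inv_cancel_right]
        | pred i ih =>
          obtain e3 : (b * b) ^ (-(i : ℤ) - 1) * x₀ * ((b * b) ^ (-(i : ℤ) - 1))⁻¹ * x₀⁻¹ =
              ((b * b) ^ (-(i : ℤ) - 1) * (x₀ * t * x₀⁻¹) * ((b * b) ^ (-(i : ℤ) - 1))⁻¹)⁻¹ *
                ((b * b) ^ (-(i : ℤ)) * x₀ * ((b * b) ^ (-(i : ℤ)))⁻¹ * x₀⁻¹) := by
            rw [← e2, zpow_sub_one]; group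
          show (b * b) ^ (-(i : ℤ) - 1) * x₀ * ((b * b) ^ (-(i : ℤ) - 1))⁻¹ * x₀⁻¹ ∈ H₀
          rw [e3]
          refine mul_mem (inv_mem ((mem_normalizer_iff.mp (hS (zpow_mem (mem_zpowers _) _)) _).mp ?_)) ih
          rwa [d.H₀_central cd _ (sd.le hx₀) _ ht, mul_inv_cancel_right]
      have h1 : b * b ∈ sectionCentralizer U H₁ H₀ :=
        ⟨mul_mem hb hb, fun h hh => (hle hh).2 _ (mem_zpowers _)⟩
      exact (sd.cent₁.symm ▸ h1 : b * b ∈ (C₁ : Set G))
    obtain ⟨m, hm⟩ := d.hG.1.of_dvd_nat (orderOf_dvd_natCard b)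
    have e : (b * b) ^ (m + 1) = b := by
      rw [← pow_two, ← pow_mul, show 2 * (m + 1) = orderOf b + 1 by omega, pow_succ,
        pow_orderOf_eq_one, one_mul]
    rw [← e]
    exact pow_mem hb2' _
  have hidx : C₁.relIndex U = 1 := relIndex_eq_one.mpr hC₁
  rw [sd.index₁] at hidx
  exact absurd hidx sd.one_lt.ne'

theorem Data.commute_H : ∀ a ∈ fittingHallOf M, ∀ b ∈ fittingHallOf M, a * b = b * a := by
  rcases dichotomyStatement_proof d.hG M W₁ U W₂ H₀ C _ d.hM d.hP d.hq cd with gd | ⟨H₁, C₁, a, sd⟩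
  · exact d.commute_galois cd gd
  · exact d.commute_split cd sd

theorem Data.H₀_bot : H₀ = ⊥ := by
  rw [d.H₀_eq cd, commutator_eq_bot_iff_le_centralizer]
  exact fun a ha => mem_centralizer_iff.mpr fun b hb => d.commute_H cd b hb a ha

end

/-- What is known of `M` after (11.7). -/
structure Struct (M W₁ U W₂ C : Subgroup G) [Fintype M] : Prop extends Data M W₁ U W₂ where
  chief : ChiefData M W₁ U W₂ ⊥ C (Nat.card W₂)
  cent : C = ⁅U, U⁆
  cent' : C = U ⊓ centralizer (fittingHallOf M : Set G)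
  centU : fittingHallOf M ⊓ centralizer (U : Set G) = ⊥
  commU : ⁅fittingHallOf M, U⁆ = fittingHallOf M
  comm : ∀ a ∈ fittingHallOf M, ∀ b ∈ fittingHallOf M, a * b = b * a
  card : Nat.card (fittingHallOf M) = Nat.card W₂ ^ Nat.card W₁
  elem : ∀ a ∈ fittingHallOf M, a ^ Nat.card W₂ = 1

theorem exists_struct (d : Data M W₁ U W₂) : ∃ C, Struct M W₁ U W₂ C := by
  obtain ⟨H₀, C, cd⟩ := d.chief
  obtain rfl := d.H₀_bot cd
  exact ⟨C, d, cd, d.C_eq cd, d.C_eq_centralizer cd, d.inf_centralizer_eq cd, d.comm_eq cd,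
    d.commute_H cd, by rw [cd.card, card_bot, one_mul], fun a ha => mem_bot.mp (cd.pow a ha)⟩

end Cfsg.Agent.OddChar.TypeP.TypeThree
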