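import Cfsg.Agent.OddChar.TypeP.TypeThree.Budget

/-!
# The other columns when `τ(μ₀ - ζ)` is exact
-/

set_option autoImplicit false
set_option linter.unusedSectionVars false
set_option linter.style.haveILetI false

namespace Cfsg.Agent.OddChar.TypeP.TypeThree

open Cfsg Subgroup
open Cfsg.Agent.Characters

universe u

variable {G : Type u} [Group G] [Fintype G] {M W₁ U W₂ C : Subgroup G} [Fintype M]
  {η : (↥(W₁ ⊔ W₂) →* ℂˣ) → G → ℂ} {μ : (↥(W₁ ⊔ W₂) →* ℂˣ) → ↥M → ℂ}
  {δ : (↥(W₁ ⊔ W₂) →* ℂˣ) → ℂ} {R : (↥M → ℂ) → Finset (G → ℂ)} {n : ℤ}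

theorem tau_natSmul (z : ℂ) (α : ↥M → ℂ) : tau M (z • α) = z • tau M α := by
  funext g
  simp only [tau, dadeIsometry, Pi.smul_apply]
  split_ifs <;> simp

variable (F : Full M W₁ U W₂ C η μ δ R n)
include F

/-- `τ(μ i j - μ i - n ζ) = η i j - η i - n τ₁ ζ`. -/
theorem Full.alpha_image {ζ : ↥M → ℂ} (hζ : ζ ∈ degQ M C) {τ₁ : (↥M → ℂ) → G → ℂ}
    (h1 : IsLinearIsometryOn (zspan (degQ M C)) τ₁)
    (hag : ∀ α ∈ zspanOn (degQ M C) {1}ᶜ, τ₁ α = tau M α)
    (hY : tau M (colSum μ 1 - ζ) = colSum η 1 - τ₁ ζ)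
    {i j : ↥(W₁ ⊔ W₂) →* ℂˣ} (hi : i ∈ leftSet W₁ W₂) (hj : j ∈ rightSet W₁ W₂) (hj1 : j ≠ 1) :
    tau M (Noncoherent.alphaFun μ ζ 1 n i j) = η (i * j) - η i - (n : ℂ) • τ₁ ζ := by
  classical
  haveI := Fintype.ofFinite (↥(W₁ ⊔ W₂) →* ℂˣ)
  haveI := Fintype.ofFinite (leftSet W₁ W₂)
  haveI := Fintype.ofFinite (rightSet W₁ W₂)
  have hG := F.st.hG
  have hM := F.st.hM
  have hP := F.st.hP
  have hW := hP.selfNormalizing
  have c := F.ctx
  obtain ⟨hζi, hζ1⟩ := F.degQ_spec hζ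
  have hζS := F.degQ_subset hζ
  set α := Noncoherent.alphaFun μ ζ 1 n i j with hαdef
  set X := tau M α with hXdef
  have hαgen : IsGeneralizedCharacter M α := c.alpha_gen hζS
  have hαc := isGen_isClassFunction hαgen
  have hαs : ∀ x : M, (x : G) ∉ typeA0 M → α x = 0 := fun x hx =>
    c.alpha_supp hζS hζ1 hi hj hj1 hx
  have hXgen : IsGeneralizedCharacter G X := S1501.result _ _ _ c.dade α hαgen hαs
  have hij : i * j ≠ i := c.left_ne hi hj hj1
  obtain ⟨b, hb⟩ := Tools.exists_coef c.hη hXgen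
  have hζμ : ∀ ω, classInner ζ (μ ω) = 0 := fun ω =>
    Coherence.inner_comm_zero (c.inner_mu_irr hζS hζi ω)
  -- the coefficient of `τ₁ ζ`
  obtain ⟨z, hz⟩ := classInner_gen_int hXgen (h1.2.2.2 _ (Isometry.mem_zS hζ))
  have hother : ∀ φ ∈ degQ M C, φ ≠ ζ → classInner X (τ₁ φ) = ((n + z : ℤ) : ℂ) := by
    intro φ hφ hne
    have h := c.coef hζS hζi hζ1 hi hj hj1 F.degQ_subset h1 hag hζ hφ (k := 1)
      (by rw [Int.cast_one, one_mul]; exact (F.degQ_spec hφ).2)
    have h0 : classInner α φ = 0 := by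
      have hφS := F.degQ_subset hφ
      have hφi := (F.degQ_spec hφ).1
      simp only [hαdef, Noncoherent.alphaFun, classInner_sub_left, classInner_smul_left,
        c.inner_mu_irr hφS hφi,
        classInner_isIrr_ne hζi hφi hne.symm, mul_zero, sub_zero]
    rw [← hαdef, ← hXdef, h0, hz, Int.cast_one, one_mul, zero_add] at h
    rw [h]; push_cast; ring
  -- pairing with `τ(μ₀ - ζ)`
  have hμ1 : ∀ k : leftSet W₁ W₂, (k : ↥(W₁ ⊔ W₂) →* ℂˣ) * 1 = k := fun k =>
    MonoidHom.ext fun w => mul_one _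
  have hsumb : ∑ k : leftSet W₁ W₂, b k = z + n - 1 := by
    have h := inner_tau hG hM hαc hαs (isGen_isClassFunction (F.Y_isGen hζ))
      fun x hx => F.Y_supp hζ hx
    rw [hY, ← hXdef, classInner_sub_right, hz, classInner_sub_right, hαdef,
      c.alpha_zeta hζS hζi hζ1 hi hj hj1, Tools.colSum_eq_sum, Tools.colSum_eq_sum,
      classInner_sum_right, classInner_sum_right] at h
    simp only [hμ1, hb] at h
    have hα1 : ∀ k : leftSet W₁ W₂, classInner α (μ k) =
        if k = ⟨i, hi⟩ then -1 else 0 := by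
      intro k
      have e1 : μ (i * j) ≠ μ k := fun e => hj1 (c.split.mul_inj (φ := i) (φ' := k) (ψ' := 1)
        hi k.2 hj CyclicTI.isRight_one ((c.hμ.inj e).trans (MonoidHom.ext fun w => by simp))).2
      simp only [hαdef, Noncoherent.alphaFun, classInner_sub_left, classInner_smul_left,
        hζμ, classInner_isIrr_ne (c.hμ.irr _) (c.hμ.irr _) e1, mul_zero,
        sub_zero, zero_sub, Int.cast_one, one_mul]
      by_cases hk : k = ⟨i, hi⟩
      · rw [if_pos hk, hk, classInner_isIrr_self (c.hμ.irr _)]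
      · rw [if_neg hk, classInner_isIrr_ne (c.hμ.irr _) (c.hμ.irr _) fun e =>
          hk (Subtype.ext (c.hμ.inj e).symm), neg_zero]
    rw [Finset.sum_congr rfl fun k _ => hα1 k, Finset.sum_ite_eq', if_pos (Finset.mem_univ _)] at h
    have : ((∑ k : leftSet W₁ W₂, b k : ℤ) : ℂ) = ((z + n - 1 : ℤ) : ℂ) := by
      push_cast
      linear_combination h
    exact_mod_cast this
  -- the corrected coefficients
  set D := X - (η (i * j) - η i) with hDdef
  have hη : ∀ ω, IsGeneralizedCharacter G (η ω) := c.eta_gen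
  have hDgen : IsGeneralizedCharacter G D := isGen_sub hXgen (isGen_sub (hη _) (hη _))
  have hDcl := isGen_isClassFunction hDgen
  set e : (↥(W₁ ⊔ W₂) →* ℂˣ) → ℤ := fun ω =>
    b ω - ((if ω = i * j then 1 else 0) - (if ω = i then 1 else 0)) with hedef
  have he : ∀ ω, classInner D (η ω) = (e ω : ℂ) := fun ω => by
    rw [hDdef, classInner_sub_left, classInner_sub_left, hb, c.hη.orthonormal, c.hη.orthonormal]
    simp only [hedef, eq_comm (a := ω)]
    push_cast
    split_ifs <;> ring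
  have hDV : ∀ w : ↥(W₁ ⊔ W₂), (w : G) ∉ W₁ → (w : G) ∉ W₂ → D w = 0 := fun w n1 n2 => by
    rw [hDdef, Pi.sub_apply, Pi.sub_apply, hXdef, tau_apply_W hG hM hP hαc w n1 n2,
      c.hη.eq_on _ w n1 n2, c.hη.eq_on _ w n1 n2, hαdef]
    have := c.alpha_on (w := w) hζS hi hj hj1 n2
    rw [Int.cast_one, one_mul] at this
    rw [this, sub_self]
  have hne1 : (1 : ↥(W₁ ⊔ W₂) →* ℂˣ) ≠ i * j := fun e' => hj1 (c.split.mul_inj (φ := i)
    (φ' := 1) (ψ' := 1) hi Tools.one_mem_leftSet hj CyclicTI.isRight_one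
      (e'.symm.trans (MonoidHom.ext fun w => by simp))).2
  have he1 : e 1 = 0 := by
    have h := inner_tau_one hG hM hαc hαs
    rw [← hXdef, ← c.hη.map_one, hb, ← c.hμ.map_one] at h
    have hv : classInner α (μ 1) = ((-(if i = 1 then 1 else 0) : ℤ) : ℂ) := by
      simp only [hαdef, Noncoherent.alphaFun, classInner_sub_left, classInner_smul_left,
        hζμ, classInner_isIrr_ne (c.hμ.irr _) (c.hμ.irr _)
          (fun e' => hne1 (c.hμ.inj e').symm), mul_zero, sub_zero, zero_sub, Int.cast_one, one_mul]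
      split_ifs with hi1
      · rw [hi1, classInner_isIrr_self (c.hμ.irr _)]; simp
      · rw [classInner_isIrr_ne (c.hμ.irr _) (c.hμ.irr _) fun e' => hi1 (c.hμ.inj e')]; simp
    rw [hv] at h
    have hb1 : b 1 = -(if i = 1 then 1 else 0) := by exact_mod_cast h
    simp only [hedef, hb1, if_neg hne1]
    by_cases hi1 : i = 1
    · rw [if_pos hi1, if_pos hi1.symm]; ring
    · rw [if_neg hi1, if_neg (Ne.symm hi1)]; ring
  have horth : ∀ k ∈ rightSet W₂ W₁, ∀ l ∈ rightSet W₂ W₁, k ≠ 1 → l ≠ 1 →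
      classInner D (colSum (fun ω => η (Tools.swapDual ω)) k) =
        classInner D (colSum (fun ω => η (Tools.swapDual ω)) l) := by
    intro k hk l hl hk1 hl1
    have hrows : ∀ k' ∈ rightSet W₂ W₁,
        classInner (η (i * j) - η i) (colSum (fun ω => η (Tools.swapDual ω)) k') = 0 := by
      intro k' hk'
      haveI := Fintype.ofFinite (leftSet W₂ W₁)
      rw [Tools.colSum_eq_sum, classInner_sum_right]
      have hk'l : Tools.swapDual k' ∈ leftSet W₁ W₂ := by
        have := Tools.swapDual_mem_leftSet (W₁ := W₁) (W₂ := W₂) (ω := k')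
        exact this.2 hk'
      simp only [classInner_sub_left, c.hη.orthonormal, Tools.swapDual_mul]
      rw [Finset.sum_sub_distrib, sub_eq_zero]
      have key : ∀ j' ∈ rightSet W₁ W₂, ∀ x : leftSet W₂ W₁,
          i * j' = Tools.swapDual x * Tools.swapDual k' ↔
            (Tools.swapDual k' = i ∧ Tools.swapDual (x : ↥(W₂ ⊔ W₁) →* ℂˣ) = j') := by
        intro j' hj' x
        have hx : Tools.swapDual (x : ↥(W₂ ⊔ W₁) →* ℂˣ) ∈ rightSet W₁ W₂ :=
          Tools.swapDual_mem_rightSet.2 x.2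
        rw [show Tools.swapDual (x : ↥(W₂ ⊔ W₁) →* ℂˣ) * Tools.swapDual k' =
          Tools.swapDual k' * Tools.swapDual (x : ↥(W₂ ⊔ W₁) →* ℂˣ) from
            MonoidHom.ext fun w => mul_comm _ _]
        refine ⟨fun e' => ?_, fun e' => by rw [e'.1, e'.2]⟩
        obtain ⟨a1, a2⟩ := c.split.mul_inj hk'l hi hx hj' e'.symm
        exact ⟨a1, a2⟩
      have hi1 : i * (1 : ↥(W₁ ⊔ W₂) →* ℂˣ) = i := MonoidHom.ext fun w => mul_one _
      by_cases hki : Tools.swapDual k' = i
      · have pick : ∀ j' ∈ rightSet W₁ W₂,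
            ∑ x : leftSet W₂ W₁, (if i * j' = Tools.swapDual (x : ↥(W₂ ⊔ W₁) →* ℂˣ) *
              Tools.swapDual k' then (1 : ℂ) else 0) = 1 := by
          intro j' hj'
          rw [Finset.sum_eq_single (⟨Tools.swapDual j',
              Tools.swapDual_mem_leftSet.2 hj'⟩ : leftSet W₂ W₁)]
          · rw [if_pos ((key j' hj' _).2 ⟨hki, Tools.swapDual_swapDual j'⟩)]
          · intro x _ hx
            refine if_neg fun e' => hx (Subtype.ext ?_)
            show (x : ↥(W₂ ⊔ W₁) →* ℂˣ) = Tools.swapDual j'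
            rw [← ((key j' hj' x).1 e').2, Tools.swapDual_swapDual]
          · exact fun hn => absurd (Finset.mem_univ _) hn
        have p2 := pick 1 Tools.one_mem_rightSet
        rw [hi1] at p2
        refine (Eq.trans ?_ (pick j hj)).trans (Eq.trans p2.symm ?_) <;>
          exact Finset.sum_congr rfl fun x _ => by congr
      · have zero : ∀ j' ∈ rightSet W₁ W₂,
            ∑ x : leftSet W₂ W₁, (if i * j' = Tools.swapDual (x : ↥(W₂ ⊔ W₁) →* ℂˣ) *
              Tools.swapDual k' then (1 : ℂ) else 0) = 0 := fun j' hj' =>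
          Finset.sum_eq_zero fun x _ => if_neg fun e' => hki ((key j' hj' x).1 e').1
        have p2 := zero 1 Tools.one_mem_rightSet
        rw [hi1] at p2
        refine (Eq.trans ?_ (zero j hj)).trans (Eq.trans p2.symm ?_) <;>
          exact Finset.sum_congr rfl fun x _ => by congr
    have hD0 : ∀ k', classInner D (colSum (fun ω => η (Tools.swapDual ω)) k') =
        classInner X (colSum (fun ω => η (Tools.swapDual ω)) k') -
          classInner (η (i * j) - η i) (colSum (fun ω => η (Tools.swapDual ω)) k') := fun k' => by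
      rw [hDdef, classInner_sub_left X]
    rw [hD0, hD0, hrows k hk, hrows l hl, sub_zero, sub_zero, hXdef]
    exact F.row_orth α k hk l hl hk1 hl1
  obtain ⟨r, hr⟩ := F.row_const hDcl hDV he horth
  have hgrid : ∀ x : leftSet W₁ W₂ × rightSet W₁ W₂,
      e (Tools.cellEquiv hW x) = e x.1 + e x.2 := fun x => by
    rw [Tools.cellEquiv_apply, Tools.coef_grid c.hη hW hDcl hDV he x.1.2 x.2.2, he1, sub_zero]
  -- `z + n = (q - 1) r`
  have hx : z + n = ((Nat.card W₁ : ℤ) - 1) * r := by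
    have h2 : ∑ k : leftSet W₁ W₂, e k = z + n := by
      have hnl : ∀ k : leftSet W₁ W₂, (k : ↥(W₁ ⊔ W₂) →* ℂˣ) ≠ i * j := fun k e' =>
        hj1 (c.split.mul_inj (φ := i) (φ' := k) (ψ' := 1) hi k.2 hj CyclicTI.isRight_one
          (e'.symm.trans (MonoidHom.ext fun w => by simp))).2
      have : ∀ k : leftSet W₁ W₂, e k = b k + if k = ⟨i, hi⟩ then 1 else 0 := fun k => by
        simp only [hedef, if_neg (hnl k)]
        by_cases hk : k = ⟨i, hi⟩
        · rw [if_pos hk, if_pos (congrArg Subtype.val hk)]; ring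
        · rw [if_neg hk, if_neg fun h => hk (Subtype.ext h)]; ring
      rw [Finset.sum_congr rfl fun k _ => this k, Finset.sum_add_distrib, hsumb,
        Finset.sum_ite_eq', if_pos (Finset.mem_univ _)]
      ring
    let i₀ : leftSet W₁ W₂ := ⟨1, Tools.one_mem_leftSet⟩
    have hrest : ∀ k ∈ (Finset.univ : Finset (leftSet W₁ W₂)).erase i₀, e k = r := fun k hk =>
      hr k k.2 fun e' => (Finset.mem_erase.1 hk).1 (Subtype.ext e')
    rw [← h2, ← Finset.add_sum_erase _ _ (Finset.mem_univ i₀), Finset.sum_congr rfl hrest,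
      Finset.sum_const, Finset.card_erase_of_mem (Finset.mem_univ i₀), Finset.card_univ,
      ← Nat.card_eq_fintype_card, Tools.card_leftSet hW, nsmul_eq_mul,
      Nat.cast_sub (Nat.card_pos : 0 < Nat.card W₁), Nat.cast_one]
    show e 1 + _ = _
    rw [he1, zero_add]
  have hp3 : 3 ≤ Nat.card W₂ := F.st.toData.three_le hW.2.1
  have hq3 : 3 ≤ Nat.card W₁ := F.st.toData.three_le hP.W₁_ne
  -- Bessel
  set N := F.degQ_finite.toFinset with hNdef
  have hN : ∀ {φ}, φ ∈ N ↔ φ ∈ degQ M C := F.degQ_finite.mem_toFinset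
  have hu : ∀ φ ∈ N, classInner X (τ₁ φ) = (((if φ = ζ then z else n + z : ℤ)) : ℂ) := fun φ hφ => by
    split_ifs with e'
    · rw [e', hz]
    · exact hother φ (hN.1 hφ) e'
  have hηN : ∀ φ ∈ N, ∀ ω, classInner (η ω) (τ₁ φ) = 0 := fun φ hφ ω =>
    Coherence.inner_comm_zero (image_orth F.degQ_subset F.degQ_conj h1 hag c.hsys c.hRirr
      (hN.1 hφ) (F.degQ_spec (hN.1 hφ)).1 ω)
  have hgram : ∀ φ ∈ N, ∀ ψ ∈ N,
      classInner (τ₁ φ) (τ₁ ψ) = if φ = ψ then ((1 : ℕ) : ℂ) else 0 := fun φ hφ ψ hψ => by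
    rw [h1.2.2.1 _ (Isometry.mem_zS (hN.1 hφ)) _ (Isometry.mem_zS (hN.1 hψ))]
    split_ifs with e'
    · rw [e', classInner_isIrr_self (F.degQ_spec (hN.1 hψ)).1, Nat.cast_one]
    · exact classInner_isIrr_ne (F.degQ_spec (hN.1 hφ)).1 (F.degQ_spec (hN.1 hψ)).1 e'
  have hbes := (Tools.norm_bound c.hη N τ₁ (fun _ => 1) (fun _ _ => one_pos) hgram hηN
    (u := fun φ => if φ = ζ then z else n + z) hu hb).1
  have hXX : classInner X X = ((2 + n * n : ℤ) : ℂ) := by
    rw [hXdef, inner_tau hG hM hαc hαs hαc hαs, hαdef, c.alpha_norm hζS hζi hζ1 hi hj hj1]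
    push_cast; ring
  have hsumN : ∑ φ ∈ N, ((if φ = ζ then z else n + z : ℤ)) ^ 2 =
      z ^ 2 + ((N.card : ℤ) - 1) * (n + z) ^ 2 := by
    rw [← Finset.add_sum_erase _ _ (hN.2 hζ), if_pos rfl,
      Finset.sum_congr rfl (g := fun _ => (n + z) ^ 2) fun φ hφ => by
        rw [if_neg (Finset.mem_erase.1 hφ).1],
      Finset.sum_const, Finset.card_erase_of_mem (hN.2 hζ), nsmul_eq_mul,
      Nat.cast_sub (Finset.card_pos.2 ⟨ζ, hN.2 hζ⟩), Nat.cast_one]
  simp only [Nat.cast_one, div_one] at hbes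
  rw [hXX, show (∑ φ ∈ N, ((if φ = ζ then z else n + z : ℤ) : ℝ) ^ 2) =
      (((z ^ 2 + ((N.card : ℤ) - 1) * (n + z) ^ 2 : ℤ)) : ℝ) from by
        rw [← hsumN, Int.cast_sum]; simp only [Int.cast_pow]] at hbes
  have hbesZ : ∑ ω, b ω ^ 2 + (z ^ 2 + ((N.card : ℤ) - 1) * (n + z) ^ 2) ≤ 2 + n * n := by
    rw [Complex.intCast_re, ← Int.cast_add, Int.cast_le] at hbes
    exact hbes
  have hle : ∑ ω, b ω ^ 2 ≤ 2 := by
    have hN2 : n ≤ N.card := F.card_degQ
    have hx' : 0 ≤ (z + n) * (z + n - 2) := by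
      rcases le_or_gt r 0 with h | h
      · have : z + n ≤ 0 := by rw [hx]; exact mul_nonpos_of_nonneg_of_nonpos (by omega) h
        exact mul_nonneg_of_nonpos_of_nonpos this (by omega)
      · have : 2 ≤ z + n := by rw [hx]; exact le_trans (by omega) (le_mul_of_one_le_right (by omega) h)
        exact mul_nonneg (by omega) (by omega)
    have h3 := mul_le_mul_of_nonneg_right hN2 (sq_nonneg (z + n))
    have h4 := mul_nonneg (show (0 : ℤ) ≤ n by linarith [F.two_le]) hx'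
    nlinarith
  have key := Tools.grid_eq_zero (I := leftSet W₁ W₂) (J := rightSet W₁ W₂)
    (by rw [← Nat.card_eq_fintype_card, Tools.card_leftSet hW]; exact hq3)
    (by rw [← Nat.card_eq_fintype_card, Tools.card_rightSet hW]; exact hp3)
    (by
      simp only [← Nat.card_eq_fintype_card, Tools.card_leftSet hW, Tools.card_rightSet hW]
      intro e'
      have h := F.st.toData.coprime_p_q
      rw [e', Nat.coprime_self] at h
      omega)
    (by rw [← Nat.card_eq_fintype_card, Tools.card_leftSet hW]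
        exact hG.1.of_dvd_nat (card_subgroup_dvd_card W₁))
    (by rw [← Nat.card_eq_fintype_card, Tools.card_rightSet hW]
        exact hG.1.of_dvd_nat (card_subgroup_dvd_card W₂))
    ⟨1, Tools.one_mem_leftSet⟩ ⟨1, Tools.one_mem_rightSet⟩ (fun k => e k) (fun k => e k) he1 he1
    ((Tools.cellEquiv hW).symm (i * j)) ((Tools.cellEquiv hW).symm i)
    (fun h => hij ((Tools.cellEquiv hW).symm.injective h)) 1 (Or.inl rfl) (by
      refine le_trans (le_of_eq ?_) hle
      rw [← (Tools.cellEquiv hW).sum_comp]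
      refine Finset.sum_congr rfl fun x _ => ?_
      rw [← hgrid x]
      simp only [hedef, Equiv.eq_symm_apply]
      ring)
  have hr0 : z + n = 0 := by
    rw [hx, mul_eq_zero]
    right
    obtain ⟨k, hk, hk1⟩ : ∃ k ∈ leftSet W₁ W₂, k ≠ 1 := by
      by_contra hno
      push Not at hno
      have : Nat.card (leftSet W₁ W₂) ≤ 1 := Finite.card_le_one_iff_subsingleton.2
        ⟨fun a b => Subtype.ext ((hno a a.2).trans (hno b b.2).symm)⟩
      rw [Tools.card_leftSet hW] at this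
      omega
    have := key (⟨k, hk⟩, ⟨1, Tools.one_mem_rightSet⟩)
    simp only [hr k hk hk1, he1, add_zero] at this
    exact this
  have hzn : classInner X (τ₁ ζ) = -(n : ℂ) := by
    rw [hz, show z = -n by omega, Int.cast_neg]
  rw [hXdef, hαdef, c.alpha_exact hζS hζi hζ1 hi hj hj1 F.degQ_subset h1 hag hζ
    (F.degQ_conj ζ hζ) hzn, Int.cast_one, one_smul]

/-- The other columns. -/
theorem Full.col_exact {ζ : ↥M → ℂ} (hζ : ζ ∈ degQ M C) {τ₁ : (↥M → ℂ) → G → ℂ}
    (h1 : IsLinearIsometryOn (zspan (degQ M C)) τ₁)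
    (hag : ∀ α ∈ zspanOn (degQ M C) {1}ᶜ, τ₁ α = tau M α)
    (hY : tau M (colSum μ 1 - ζ) = colSum η 1 - τ₁ ζ)
    {j : ↥(W₁ ⊔ W₂) →* ℂˣ} (hj : j ∈ rightSet W₁ W₂) (hj1 : j ≠ 1) :
    tau M (colSum μ j - (C.relIndex U : ℂ) • ζ) = colSum η j - (C.relIndex U : ℂ) • τ₁ ζ := by
  classical
  haveI := Fintype.ofFinite (leftSet W₁ W₂)
  have hμ1 : ∀ k : leftSet W₁ W₂, (k : ↥(W₁ ⊔ W₂) →* ℂˣ) * 1 = k := fun k =>
    MonoidHom.ext fun w => mul_one _
  have hu : (C.relIndex U : ℂ) = 1 + (n : ℂ) * (Nat.card W₁ : ℂ) := by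
    have h : ((C.relIndex U : ℤ) : ℂ) = ((1 + n * (Nat.card W₁ : ℤ) : ℤ) : ℂ) := by
      rw [F.ctx.hc.eq]
    push_cast at h
    exact h
  have hsum : ∀ {X : Type u} (f : (↥(W₁ ⊔ W₂) →* ℂˣ) → X → ℂ) (v : X → ℂ),
      colSum f j - (C.relIndex U : ℂ) • v = (∑ i : leftSet W₁ W₂,
        (f ((i : ↥(W₁ ⊔ W₂) →* ℂˣ) * j) - (1 : ℂ) • f i - (n : ℂ) • v)) + (colSum f 1 - v) := by
    intro X f v
    simp only [Tools.colSum_eq_sum, Finset.sum_sub_distrib, Finset.sum_const, Finset.card_univ,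
      ← Nat.card_eq_fintype_card, Tools.card_leftSet F.st.hP.selfNormalizing, hμ1, one_smul, hu,
      ← Nat.cast_smul_eq_nsmul ℂ, smul_smul, add_smul, one_smul,
      mul_comm (Nat.card W₁ : ℂ) (n : ℂ)]
    abel
  rw [hsum μ ζ, hsum η (τ₁ ζ), tau_add, tau_sum, hY]
  refine congrArg₂ (· + ·) (Finset.sum_congr rfl fun i _ => ?_) rfl
  have h := F.alpha_image hζ h1 hag hY i.2 hj hj1
  rw [Noncoherent.alphaFun, Int.cast_one] at h
  rw [h, one_smul]

end Cfsg.Agent.OddChar.TypeP.TypeThree
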