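import Cfsg.Agent.OddChar.TypeP.TypeThree.Exact
import Cfsg.Agent.OddChar.TypeP.ColumnImage
import Cfsg.Agent.OddChar.TypeP.CoreCoherence.Final
import Cfsg.Agent.OddLocal.NonNilpotent

/-!
# The exact case contradicts the non-coherence of `S(C)`
-/

set_option autoImplicit false
set_option linter.unusedSectionVars false
set_option linter.style.haveILetI false

namespace Cfsg.Agent.OddChar.TypeP.TypeThree

open Cfsg Subgroup
open Cfsg.Agent.Characters
open scoped ComplexConjugate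

universe u

variable {G : Type u} [Group G] [Fintype G] {M W₁ U W₂ C : Subgroup G} [Fintype M]
  {η : (↥(W₁ ⊔ W₂) →* ℂˣ) → G → ℂ} {μ : (↥(W₁ ⊔ W₂) →* ℂˣ) → ↥M → ℂ}
  {δ : (↥(W₁ ⊔ W₂) →* ℂˣ) → ℂ} {R : (↥M → ℂ) → Finset (G → ℂ)} {n : ℤ}

theorem conjFun_conjFun' (φ : ↥M → ℂ) : conjFun (conjFun φ) = φ :=
  funext fun x => Complex.conj_conj (φ x)

theorem calSH_conj (M X : Subgroup G) [Fintype M] :
    ∀ φ ∈ calSH M X, conjFun φ ∈ calSH M X := fun φ h =>
  ⟨Coherence.above_conj _ _ h.1, fun h' => h.2 (conjFun_conjFun' φ ▸ Coherence.above_conj _ _ h')⟩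

/-- `φ ↦ τ(φ - (φ 1 / q) ζ) + (φ 1 / q) τ₁ ζ`. -/
noncomputable def glueMap (ζ : ↥M → ℂ) (v : G → ℂ) (q : ℂ) : (↥M → ℂ) →ₗ[ℂ] (G → ℂ) where
  toFun α := tau M (α - (α 1 / q) • ζ) + (α 1 / q) • v
  map_add' a b := by
    rw [Pi.add_apply, add_div, add_smul, add_smul,
      show a + b - ((a 1 / q) • ζ + (b 1 / q) • ζ) = (a - (a 1 / q) • ζ) + (b - (b 1 / q) • ζ) by
        abel, tau_add]
    abel
  map_smul' z a := by
    rw [RingHom.id_apply, Pi.smul_apply, smul_eq_mul, mul_div_assoc, mul_smul, mul_smul,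
      ← smul_sub, tau_natSmul, smul_add]

theorem glueMap_apply (ζ : ↥M → ℂ) (v : G → ℂ) (q : ℂ) (α : ↥M → ℂ) :
    glueMap ζ v q α = tau M (α - (α 1 / q) • ζ) + (α 1 / q) • v := rfl

variable (F : Full M W₁ U W₂ C η μ δ R n)
include F

/-- `S(C)` is not coherent. -/
theorem Full.not_coh_C : ¬ Coh M C := by
  have d := F.st.toData
  refine not_coh_of_nilpotent d.hG d.hM d.hP d.hS (N := ⊥) (B := C) (H := fittingHallOf M) (C := C)
    (Inv.bot M) F.st.inv_C F.st.inv_HC (OddLocal.NonNilpotent.isNilpotent_fittingHallOf M)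
    (d.nilpotent_C F.st.chief) (H_le_M M) F.st.inv_C.le_M ?_ bot_le le_sup_right ?_ d.hnc
  · rw [le_bot_iff, commutator_comm, commutator_eq_bot_iff_le_centralizer]
    intro x hx
    rw [F.st.cent'] at hx
    exact (mem_inf.mp hx).2
  · have h := d.relIndex_sup (Inv.bot M) bot_le (d.C_le F.st.chief)
    rw [bot_sup_eq, relIndex_bot_left, F.st.card] at h
    rw [h]
    exact d.big

theorem Full.comm_HC : ⁅fittingHallOf M ⊔ C, fittingHallOf M ⊔ C⁆ ≤ C := by
  have hn := F.st.inv_C.norm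
  have hCc : C ≤ centralizer (fittingHallOf M : Set G) := fun x hx => by
    rw [F.st.cent'] at hx
    exact (mem_inf.mp hx).2
  refine commutator_sup_le ((H_le_M M).trans hn) (F.st.inv_C.le_M.trans hn) ?_ ?_
    C.commutator_le_self
  · refine le_trans (le_of_eq ?_) bot_le
    rw [commutator_eq_bot_iff_le_centralizer]
    exact fun a ha => mem_centralizer_iff.mpr fun b hb => (F.st.comm a ha b hb).symm
  · refine le_trans (le_of_eq ?_) bot_le
    rw [commutator_comm, commutator_eq_bot_iff_le_centralizer]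
    exact hCc

/-- Members of `S(C)` outside `S(HC)` are nontrivial on `H`. -/
theorem Full.mem_S₂ {φ : ↥M → ℂ} (hφ : φ ∈ inducedIrrAbove (derivedIn M) (C.subgroupOf M))
    (hn : φ ∉ degQ M C) : φ ∈ calSH M (⊥ ⊔ ⁅C, C⁆) := by
  haveI := Noncoherent.derivedIn_normal M
  haveI := F.st.inv_C.normal
  haveI := F.st.toData.inv_H.normal
  haveI := F.st.inv_HC.normal
  refine ⟨Coherence.above_mono _ (subgroupOf_le_of_le ?_) hφ, fun hH => hn ?_⟩
  · rw [bot_sup_eq]; exact C.commutator_le_self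
  have hCK : C.subgroupOf M ≤ derivedIn M := subgroupOf_le_of_le F.st.inv_C.le
  have hHK : (fittingHallOf M).subgroupOf M ≤ derivedIn M :=
    subgroupOf_le_of_le F.st.toData.inv_H.le
  obtain ⟨h0, hC'⟩ := (mem_above_iff _ _ hCK).1 hφ
  obtain ⟨-, hH'⟩ := (mem_above_iff _ _ hHK).1 hH
  have hch : IsCharacter M φ := by
    obtain ⟨θ, hθ, -, -, rfl⟩ := hφ
    exact isCharacter_indFun _ (isCharacter_of_isIrr hθ)
  refine (mem_above_iff (derivedIn M) _ (subgroupOf_le_of_le F.st.inv_HC.le)).2 ⟨h0, fun a ha => ?_⟩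
  have hle : (fittingHallOf M).subgroupOf M ⊔ C.subgroupOf M ≤ charKernel φ hch :=
    sup_le (fun x hx => hH' x hx) fun x hx => hC' x hx
  rw [subgroupOf_sup (H_le_M M) F.st.inv_C.le_M] at ha
  exact hle ha

set_option maxHeartbeats 800000 in
/-- The exact case is impossible. -/
theorem Full.not_exact {ζ : ↥M → ℂ} (hζ : ζ ∈ degQ M C) :
    ¬ ∃ τ₁, IsLinearIsometryOn (zspan (degQ M C)) τ₁ ∧
      (∀ α ∈ zspanOn (degQ M C) {1}ᶜ, τ₁ α = tau M α) ∧
      tau M (colSum μ 1 - ζ) = colSum η 1 - τ₁ ζ := by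
  classical
  rintro ⟨τ₁, h1, hag, hY⟩
  haveI := Fintype.ofFinite (derivedIn M)
  haveI := Noncoherent.derivedIn_normal M
  haveI := F.st.inv_C.normal
  have hG := F.st.hG
  have hM := F.st.hM
  have hP := F.st.hP
  have c := F.ctx
  obtain ⟨hζi, hζ1⟩ := F.degQ_spec hζ
  have hζS := F.degQ_subset hζ
  set q : ℂ := (Nat.card W₁ : ℂ) with hqdef
  have hq0 : q ≠ 0 := natCard_ne_zero
  set u := C.relIndex U with hudef
  have hu : (u : ℤ) = 1 + n * (Nat.card W₁ : ℤ) := F.ctx.hc.eq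
  have hu0 : 0 < u := by
    have := F.st.toData.two_le_u F.st.chief
    omega
  have hqu : Nat.card W₁ < u := by
    have h2 := F.two_le
    have h3 : (0 : ℤ) < Nat.card W₁ := by exact_mod_cast Nat.card_pos (α := W₁)
    have : (Nat.card W₁ : ℤ) < u := by nlinarith
    exact_mod_cast this
  set Sc := inducedIrrAbove (derivedIn M) (C.subgroupOf M) with hScdef
  have hScS : Sc ⊆ calS M := by
    rw [Noncoherent.calS_eq_above F.st.hcore]
    exact Coherence.above_mono _ bot_le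
  have horth1 : ∀ ω, classInner (τ₁ ζ) (η ω) = 0 := fun ω =>
    image_orth F.degQ_subset F.degQ_conj h1 hag c.hsys c.hRirr hζ hζi ω
  have hzgen : IsGeneralizedCharacter G (τ₁ ζ) := h1.2.2.2 _ (Isometry.mem_zS hζ)
  have hzz : classInner (τ₁ ζ) (τ₁ ζ) = 1 := by
    rw [h1.2.2.1 _ (Isometry.mem_zS hζ) _ (Isometry.mem_zS hζ), classInner_isIrr_self hζi]
  have hcolζ : ∀ j ∈ rightSet W₁ W₂, classInner (colSum η j) (τ₁ ζ) = 0 := fun j _ => by
    haveI := Fintype.ofFinite (leftSet W₁ W₂)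
    rw [Tools.colSum_eq_sum, classInner_sum_left]
    exact Finset.sum_eq_zero fun i _ => Coherence.inner_comm_zero (horth1 _)
  -- `φ 1 = b q` with `b ≤ u`
  have hdeg : ∀ φ ∈ Sc, ∃ b : ℕ, 0 < b ∧ b ≤ u ∧ φ 1 = (b : ℂ) * q := by
    intro φ hφ
    obtain ⟨θ, hθ, -, hk, rfl⟩ := hφ
    obtain ⟨f, hf0, hf⟩ := irr_one_pos hθ
    refine ⟨f, hf0, ?_, ?_⟩
    · have hb := Coherence.degree_bound (derivedIn M) (B := C.subgroupOf M)
        (C := (fittingHallOf M ⊔ C).subgroupOf M) (D := (fittingHallOf M ⊔ C).subgroupOf M)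
        (subgroupOf_le_of_le le_sup_right) le_rfl (subgroupOf_le_of_le F.st.inv_HC.le)
        (fun x hx y hy => by
          have := F.comm_HC (commutator_mem_commutator (mem_subgroupOf.mp hx) (mem_subgroupOf.mp hy))
          rw [mem_subgroupOf]
          simpa [commutatorElement_def] using this) hθ hk hf
      rw [relIndex_self, mul_one, derivedIn, relIndex_subgroupOf M.commutator_le_self,
        F.st.relIndex_HC] at hb
      exact Nat.pow_le_pow_iff_left two_ne_zero |>.1 hb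
    · rw [indFun_one, Noncoherent.index_derivedIn hP, hf, mul_comm]
  -- the two kinds of members
  have hcol : ∀ φ ∈ Sc, ¬ IsIrrCharacter ↥M φ →
      ∃ j ∈ rightSet W₁ W₂, j ≠ 1 ∧ φ = colSum μ j := fun φ hφ hn => by
    obtain ⟨j, hj, hj1, e⟩ := c.hμ.red_eq_col hG hP (hScS hφ) hn
    exact ⟨j, hj, hj1, e⟩
  have hsub : ∀ φ ∈ Sc, ∀ b : ℕ, φ 1 = (b : ℂ) * q →
      (φ - (b : ℂ) • ζ) ∈ zspanOn (calS M) {1}ᶜ := fun φ hφ b hb =>
    Isometry.mem_zspanOn_compl_one (Submodule.sub_mem _ (Isometry.mem_zS (hScS hφ))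
      (by rw [Nat.cast_smul_eq_nsmul]; exact nsmul_mem (Isometry.mem_zS hζS) b))
      (by rw [Pi.sub_apply, Pi.smul_apply, smul_eq_mul, hζ1, hb, sub_self])
  -- the coefficient of `τ₁ ζ`
  have hz : ∀ φ ∈ Sc, ∀ b : ℕ, φ 1 = (b : ℂ) * q →
      classInner (tau M (φ - (b : ℂ) • ζ)) (τ₁ ζ) = classInner φ ζ - (b : ℂ) := by
    intro φ hφ b hb
    by_cases hφQ : φ ∈ degQ M C
    · have hb1 : (b : ℂ) = 1 := by
        rw [(F.degQ_spec hφQ).2] at hb
        exact (mul_eq_right₀ hq0).1 hb.symm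
      have hm : φ - ζ ∈ zspanOn (degQ M C) {1}ᶜ := Isometry.mem_zspanOn_compl_one
        (Submodule.sub_mem _ (Isometry.mem_zS hφQ) (Isometry.mem_zS hζ))
        (by rw [Pi.sub_apply, (F.degQ_spec hφQ).2, hζ1, sub_self])
      rw [hb1, one_smul, ← hag _ hm, h1.2.2.1 _ hm.1 _ (Isometry.mem_zS hζ), classInner_sub_left,
        classInner_isIrr_self hζi]
    by_cases hirr : IsIrrCharacter ↥M φ
    swap
    · obtain ⟨j, hj, hj1, rfl⟩ := hcol φ hφ hirr
      have hbu : (b : ℂ) = (u : ℂ) := mul_right_cancel₀ hq0 (hb.symm.trans (c.col_one hj hj1))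
      rw [hbu, F.col_exact hζ h1 hag hY hj hj1, classInner_sub_left, classInner_smul_left,
        hcolζ j hj, hzz, F.inner_col_zeta hζS hζi, mul_one]
    -- an irreducible member outside `S(HC)`
    obtain ⟨j, hj, hj1⟩ : ∃ j ∈ rightSet W₁ W₂, j ≠ 1 := by
      by_contra hno
      push Not at hno
      have : Nat.card (rightSet W₁ W₂) ≤ 1 := Finite.card_le_one_iff_subsingleton.2
        ⟨fun a b => Subtype.ext ((hno a a.2).trans (hno b b.2).symm)⟩
      rw [Tools.card_rightSet hP.selfNormalizing] at this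
      have := F.st.toData.three_le hP.selfNormalizing.2.1
      omega
    set χ := colSum μ j with hχdef
    have hχC : χ ∈ Sc := F.st.col_C c.hμ hj hj1
    have hχ2 : χ ∈ calSH M (⊥ ⊔ ⁅C, C⁆) := F.mem_S₂ hχC fun h =>
      F.ne_col (F.degQ_spec h).1 hj rfl
    have hφ2 := F.mem_S₂ hφ hφQ
    obtain ⟨-, τ₂, h2, hag2⟩ := CoreCoherence.coreCoherence_proof hG M W₁ U W₂ ⊥ C (Nat.card W₂)
      hM hP F.st.hq F.st.chief
    change IsLinearIsometryOn (zspan (calSH M (⊥ ⊔ ⁅C, C⁆))) τ₂ at h2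
    change ∀ α ∈ zspanOn (calSH M (⊥ ⊔ ⁅C, C⁆)) {1}ᶜ, τ₂ α = tau M α at hag2
    have hS2 : calSH M (⊥ ⊔ ⁅C, C⁆) ⊆ calS M := CoreCoherence.calSH_subset hP _
    have horth2 : ∀ ω, classInner (τ₂ φ) (η ω) = 0 := fun ω =>
      image_orth hS2 (calSH_conj _ _) h2 hag2 c.hsys c.hRirr hφ2 hirr ω
    have hnecol : φ ≠ χ := F.ne_col hirr hj
    have hnecol' : φ ≠ conjFun χ := fun e => c.hμ.col_not_irr hG hP hj
      (show IsIrrCharacter ↥M χ by
        rw [← conjFun_conjFun' χ, ← e]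
        exact isIrrCharacter_conj hirr)
    set w := (u : ℂ) • φ - (b : ℂ) • χ with hwdef
    have hw : w ∈ zspanOn (calSH M (⊥ ⊔ ⁅C, C⁆)) {1}ᶜ := Isometry.mem_zspanOn_compl_one
      (Submodule.sub_mem _
        (by rw [Nat.cast_smul_eq_nsmul]; exact nsmul_mem (Isometry.mem_zS hφ2) u)
        (by rw [Nat.cast_smul_eq_nsmul]; exact nsmul_mem (Isometry.mem_zS hχ2) b))
      (by
        simp only [hwdef, Pi.sub_apply, Pi.smul_apply, smul_eq_mul, hb, hχdef, c.col_one hj hj1]
        ring)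
    have hτw : tau M w = (u : ℂ) • τ₂ φ - (b : ℂ) • τ₂ χ := by
      rw [← hag2 _ hw, hwdef, Nat.cast_smul_eq_nsmul, Nat.cast_smul_eq_nsmul,
        ← natCast_zsmul, ← natCast_zsmul,
        Isometry.map_sub' (M := Isometry.zS (calSH M (⊥ ⊔ ⁅C, C⁆))) h2
          (Submodule.smul_mem _ _ (Isometry.mem_zS hφ2))
          (Submodule.smul_mem _ _ (Isometry.mem_zS hχ2)),
        h2.2.1 _ (Isometry.mem_zS hφ2),
        h2.2.1 _ (Isometry.mem_zS hχ2), natCast_zsmul, natCast_zsmul, ← Nat.cast_smul_eq_nsmul ℂ,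
        ← Nat.cast_smul_eq_nsmul ℂ]
    set xj := χ - (u : ℂ) • ζ with hxjdef
    have hxj : xj ∈ zspanOn (calS M) {1}ᶜ := hsub χ hχC u (c.col_one hj hj1)
    have hwS := Isometry.zspanOn_mono _ hS2 hw
    obtain ⟨P, hP1⟩ := classInner_gen_int (h2.2.2.2 _ (Isometry.mem_zS hφ2)) hzgen
    have hpair := inner_tau hG hM (c.span hwS.1).2.1 (fun x hx => c.supp₀ hwS hx)
      (c.span hxj.1).2.1 fun x hx => c.supp₀ hxj hx
    rw [hτw, hxjdef, hχdef, F.col_exact hζ h1 hag hY hj hj1, ← hχdef, hwdef] at hpair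
    have hφη : classInner (τ₂ φ) (colSum η j) = 0 := by
      haveI := Fintype.ofFinite (leftSet W₁ W₂)
      rw [Tools.colSum_eq_sum, classInner_sum_right]
      exact Finset.sum_eq_zero fun i _ => horth2 _
    have hχη : classInner (τ₂ χ) (τ₁ ζ) = 0 ∧ (classInner (τ₂ χ) (colSum η j) = q ∨
        classInner (τ₂ χ) (colSum η j) = 0) := by
      have hji : j⁻¹ ∈ rightSet W₁ W₂ := inv_mem_rightSet hj
      have hne : j⁻¹ ≠ j := inv_ne_self hG hj1
      have hcc : ∀ k ∈ rightSet W₁ W₂, classInner (colSum η k) (colSum η j) =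
          if k = j then q else 0 := by
        intro k hk
        haveI := Fintype.ofFinite (leftSet W₁ W₂)
        rw [Tools.colSum_eq_sum η j, classInner_sum_right,
          Finset.sum_congr rfl (g := fun _ => if k = j then 1 else 0) fun i _ =>
            inner_colSum_eta (CyclicTI.split_of hP.selfNormalizing) c.hη hk hj i.2,
          Finset.sum_const, Finset.card_univ, ← Nat.card_eq_fintype_card,
          Tools.card_leftSet hP.selfNormalizing, nsmul_eq_mul]
        split_ifs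
        · rw [mul_one]
        · rw [mul_zero]
      rcases columnImage hG M W₁ U W₂ hM hP η c.hη μ δ c.hμ _ hS2 (calSH_conj _ _) τ₂ h2 hag2 j hj
        hj1 hχ2 ⟨φ, hφ2, hnecol, hnecol'⟩ with e | e
      · rw [e, (F.delta_one hj hj1).1, one_smul]
        exact ⟨hcolζ j hj, Or.inl (by rw [hcc j hj, if_pos rfl])⟩
      · rw [e, (F.delta_one hj hj1).1, one_smul, classInner_neg_left, classInner_neg_left,
          hcolζ _ hji, neg_zero, hcc _ hji, if_neg hne, neg_zero]
        exact ⟨rfl, Or.inr rfl⟩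
    have hφζ : classInner φ ζ = 0 := classInner_isIrr_ne hirr hζi fun e => hφQ (e ▸ hζ)
    have hqq : classInner χ χ = q := c.col_norm j
    simp only [classInner_sub_left, classInner_sub_right, classInner_smul_left,
      classInner_smul_right, map_natCast, hφη, hP1, hχη.1, hφζ, hqq, hχdef,
      F.inner_col_zeta hζS hζi, F.inner_col_zeta (hScS hφ) hirr,
      Coherence.inner_comm_zero (F.inner_col_zeta (hScS hφ) hirr j)] at hpair
    have hP0 : P = 0 := by
      rcases hχη.2 with e | e <;> rw [← hχdef, e, hχη.1, hqq] at hpair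
      · have : ((u : ℤ) ^ 2 * P : ℤ) = 0 := by
          have h' : (((u : ℤ) ^ 2 * P : ℤ) : ℂ) = ((0 : ℤ) : ℂ) := by
            push_cast
            linear_combination -hpair
          exact_mod_cast h'
        exact (mul_eq_zero.1 this).resolve_left (pow_ne_zero _ (by omega))
      · exfalso
        obtain ⟨b', hb'0, hb'u, hb'⟩ := hdeg φ hφ
        have hbb : b = b' := by exact_mod_cast mul_right_cancel₀ hq0 (hb.symm.trans hb')
        subst hbb
        have h' : (u : ℤ) ^ 2 * P = (b : ℤ) * Nat.card W₁ := by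
          have h'' : (((u : ℤ) ^ 2 * P : ℤ) : ℂ) = (((b : ℤ) * Nat.card W₁ : ℤ) : ℂ) := by
            push_cast
            linear_combination -hpair
          exact_mod_cast h''
        have h1' : (u : ℤ) ^ 2 ≤ (b : ℤ) * Nat.card W₁ := by
          rw [← h']
          refine le_mul_of_one_le_right (sq_nonneg _) ?_
          by_contra hle
          have : (u : ℤ) ^ 2 * P ≤ 0 := mul_nonpos_of_nonneg_of_nonpos (sq_nonneg _) (by omega)
          have : (0 : ℤ) < (b : ℤ) * Nat.card W₁ :=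
            mul_pos (by exact_mod_cast hb'0) (by exact_mod_cast Nat.card_pos (α := W₁))
          omega
        have h2' : (b : ℤ) * Nat.card W₁ < (u : ℤ) ^ 2 := by
          have h3 : (b : ℤ) ≤ u := by exact_mod_cast hb'u
          have h4 : (Nat.card W₁ : ℤ) < u := by exact_mod_cast hqu
          nlinarith [show (0 : ℤ) < b by exact_mod_cast hb'0]
        omega
    have hkey : classInner (tau M w) (τ₁ ζ) = 0 := by
      rw [hτw, classInner_sub_left, classInner_smul_left, classInner_smul_left, hP1, hχη.1, hP0]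
      simp
    have hsplit : w = (u : ℂ) • (φ - (b : ℂ) • ζ) - (b : ℂ) • xj := by
      rw [hwdef, hxjdef, smul_sub, smul_sub, smul_smul, smul_smul, mul_comm (b : ℂ)]
      abel
    rw [hsplit, tau_sub, tau_natSmul, tau_natSmul, hxjdef, hχdef,
      F.col_exact hζ h1 hag hY hj hj1, classInner_sub_left, classInner_smul_left,
      classInner_smul_left, classInner_sub_left, classInner_smul_left, hcolζ j hj, hzz] at hkey
    rw [hφζ, zero_sub]
    refine mul_left_cancel₀ (Nat.cast_ne_zero.2 hu0.ne' : (u : ℂ) ≠ 0) ?_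
    linear_combination hkey
  -- the extension
  have hne : Sc.Nonempty := ⟨ζ, Coherence.above_mono _ (subgroupOf_le_of_le le_sup_right) hζ⟩
  refine F.not_coh_C ⟨Coherence.exists_nonzero c.hsys hScS hne
    fun φ h => Coherence.above_conj _ _ h, glueMap ζ (τ₁ ζ) q, ?_, fun α hα => ?_⟩
  swap
  · have h0 : α 1 = 0 := hα.2 1 (by simp)
    rw [glueMap_apply, h0, zero_div, zero_smul, zero_smul, sub_zero, add_zero]
  have hFφ : ∀ φ ∈ Sc, ∀ b : ℕ, φ 1 = (b : ℂ) * q →
      glueMap ζ (τ₁ ζ) q φ = tau M (φ - (b : ℂ) • ζ) + (b : ℂ) • τ₁ ζ := fun φ _ b hb => by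
    rw [glueMap_apply, hb, mul_div_cancel_right₀ _ hq0]
  refine Coherence.isometry_span _ _ (fun φ hφ ψ hψ => ?_) fun φ hφ => ?_
  · obtain ⟨b, -, -, hb⟩ := hdeg φ hφ
    obtain ⟨e, -, -, he⟩ := hdeg ψ hψ
    have hbm := hsub φ hφ b hb
    have hem := hsub ψ hψ e he
    have hζφ : classInner ζ ψ = classInner ψ ζ := by
      obtain ⟨z, hz'⟩ := classInner_gen_int
        (c.span (Submodule.subset_span (hScS hψ))).1 (c.member hζS).1
      rw [hz', Coherence.inner_comm_int hz']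
    have hcom : classInner (τ₁ ζ) (tau M (ψ - (e : ℂ) • ζ)) = classInner ψ ζ - (e : ℂ) := by
      obtain ⟨z, hz'⟩ := classInner_gen_int
        (c.span (Submodule.subset_span (hScS hψ))).1 (c.member hζS).1
      have := hz ψ hψ e he
      rw [hz', ← Int.cast_natCast e, ← Int.cast_sub, Int.cast_natCast] at this
      rw [Coherence.inner_comm_int this, hz']
      push_cast; ring
    rw [hFφ φ hφ b hb, hFφ ψ hψ e he]
    simp only [classInner_add_left, classInner_add_right, classInner_smul_left,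
      classInner_smul_right, map_natCast, hzz, hz φ hφ b hb, hcom]
    rw [inner_tau hG hM (c.span hbm.1).2.1 (fun x hx => c.supp₀ hbm hx) (c.span hem.1).2.1
      fun x hx => c.supp₀ hem hx]
    simp only [classInner_sub_left, classInner_sub_right, classInner_smul_left,
      classInner_smul_right, map_natCast, classInner_isIrr_self hζi, hζφ]
    ring
  · obtain ⟨b, -, -, hb⟩ := hdeg φ hφ
    have hbm := hsub φ hφ b hb
    rw [hFφ φ hφ b hb]
    refine isGen_add (S1501.result _ _ _ c.dade _ (c.span hbm.1).1 fun x hx => c.supp₀ hbm hx) ?_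
    exact_mod_cast isGen_intSmul hzgen (b : ℤ)

end Cfsg.Agent.OddChar.TypeP.TypeThree
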