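import Cfsg.Agent.OddChar.TypeP.TypeThree.Columns
import Cfsg.Agent.OddChar.TypeP.Subcoherent
import Cfsg.Agent.OddChar.TypeP.Tools.CalS
import Cfsg.Agent.OddChar.TypeP.Tools.Swap

/-!
# The members of degree `q`, and the two constancy relations
-/

set_option autoImplicit false
set_option linter.unusedSectionVars false
set_option linter.style.haveILetI false

namespace Cfsg.Agent.OddChar.TypeP.TypeThree

open Cfsg Subgroup
open Cfsg.Agent.Characters

universe u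

variable {G : Type u} [Group G] [Fintype G] {M W₁ U W₂ C : Subgroup G} [Fintype M]
  {η : (↥(W₁ ⊔ W₂) →* ℂˣ) → G → ℂ} {μ : (↥(W₁ ⊔ W₂) →* ℂˣ) → ↥M → ℂ}
  {δ : (↥(W₁ ⊔ W₂) →* ℂˣ) → ℂ} {R : (↥M → ℂ) → Finset (G → ℂ)} {n : ℤ}

/-- Everything known after (11.8). -/
structure Full (M W₁ U W₂ C : Subgroup G) [Fintype M] (η : (↥(W₁ ⊔ W₂) →* ℂˣ) → G → ℂ)
    (μ : (↥(W₁ ⊔ W₂) →* ℂˣ) → ↥M → ℂ) (δ : (↥(W₁ ⊔ W₂) →* ℂˣ) → ℂ)
    (R : (↥M → ℂ) → Finset (G → ℂ)) (n : ℤ) : Prop where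
  st : Struct M W₁ U W₂ C
  ctx : Noncoherent.Ctx M W₁ U W₂ η μ δ R (C.relIndex U) 1 n
  two_le : 2 ≤ n

theorem exists_full (S : Struct M W₁ U W₂ C) (hη : IsCyclicTIFamily W₁ W₂ η)
    (hμ : MuData M W₁ W₂ μ δ) : ∃ R n, Full M W₁ U W₂ C η μ δ R n := by
  obtain ⟨R, hR, hRirr, -, -⟩ := subcoherent S.hG M W₁ U W₂ S.hM S.hP η hη μ δ hμ
  obtain ⟨n, hc, hn⟩ := S.exists_const hμ
  exact ⟨R, n, S, ⟨S.hG, S.hM, S.hP, S.hcore, S.hp, hη, hμ, hc, hR, hRirr,
    fun j hj hj1 => hμ.col_mem S.hG S.hP hj hj1⟩, hn⟩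

/-- The image of an irreducible member under an extension is orthogonal to the family. -/
theorem image_orth {S' : Set (↥M → ℂ)} (hS' : S' ⊆ calS M) (hconj : ∀ φ ∈ S', conjFun φ ∈ S')
    {τ' : (↥M → ℂ) → G → ℂ} (h1 : IsLinearIsometryOn (zspan S') τ')
    (hag : ∀ α ∈ zspanOn S' {1}ᶜ, τ' α = tau M α)
    (hsys : IsCoherenceSystem (calS M) (tau M) R)
    (hR : ∀ φ ∈ calS M, IsIrrCharacter ↥M φ → ∀ a ∈ R φ, ∀ ω, classInner a (η ω) = 0)
    {φ : ↥M → ℂ} (hφ : φ ∈ S') (hi : IsIrrCharacter ↥M φ) (ω : ↥(W₁ ⊔ W₂) →* ℂˣ) :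
    classInner (τ' φ) (η ω) = 0 := by
  have hd : φ - conjFun φ ∈ zspanOn S' {1}ᶜ := Isometry.mem_zspanOn_compl_one
    (Submodule.sub_mem _ (Isometry.mem_zS hφ) (Isometry.mem_zS (hconj φ hφ)))
    (by rw [Pi.sub_apply, Coherence.conj_one hsys (hS' hφ), sub_self])
  rw [Coherence.eq_part hsys (hS' hφ) h1 (Isometry.mem_zS hφ) hd.1 (hag _ hd), Coherence.part,
    classInner_sum_left]
  exact Finset.sum_eq_zero fun a ha => by
    rw [classInner_smul_left, hR φ (hS' hφ) hi a ha ω, mul_zero]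

/-- `S(HC)`. -/
def degQ (M C : Subgroup G) [Fintype M] : Set (↥M → ℂ) :=
  inducedIrrAbove (derivedIn M) ((fittingHallOf M ⊔ C).subgroupOf M)

section

variable (F : Full M W₁ U W₂ C η μ δ R n)
include F

theorem Full.degQ_subset : degQ M C ⊆ calS M := by
  rw [Noncoherent.calS_eq_above F.st.hcore]
  exact Coherence.above_mono _ bot_le

theorem Full.degQ_conj : ∀ φ ∈ degQ M C, conjFun φ ∈ degQ M C := fun _ h =>
  Coherence.above_conj _ _ h

theorem Full.HC_ne : fittingHallOf M ⊔ C ≠ ⁅M, M⁆ :=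
  F.st.toData.sup_ne F.st.toData.inv_H le_rfl (F.st.toData.C_le F.st.chief) F.st.chief.cent_ne

theorem Full.derived_le_HC : ⁅(⁅M, M⁆ : Subgroup G), ⁅M, M⁆⁆ ≤ fittingHallOf M ⊔ C := by
  have hi := F.st.inv_HC
  rw [F.st.toData.derived_eq]
  exact commutator_sup_le ((H_le_M M).trans hi.norm) ((U_le_M F.st.hP).trans hi.norm)
    ((fittingHallOf M).commutator_le_self.trans le_sup_left)
    ((Cfsg.Agent.Coprime.commutator_le_of_le_normalizer
      ((U_le_M F.st.hP).trans (M_le_normalizer_H M))).trans le_sup_left)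
    (F.st.derivedU_le.trans le_sup_right)

theorem Full.coh_degQ : IsCoherent (degQ M C) {1}ᶜ (tau M) :=
  coh_abelian F.st.hG F.st.hM F.st.hP F.st.hS F.st.inv_HC F.HC_ne F.derived_le_HC

theorem Full.degQ_spec {φ : ↥M → ℂ} (hφ : φ ∈ degQ M C) :
    IsIrrCharacter ↥M φ ∧ φ 1 = (Nat.card W₁ : ℂ) := by
  classical
  haveI := Noncoherent.derivedIn_normal M
  haveI := F.st.inv_HC.normal
  have hdeg : φ 1 = (Nat.card W₁ : ℂ) := by
    obtain ⟨θ, hθ, -, hk, rfl⟩ := hφ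
    obtain ⟨f, hf0, hf⟩ := irr_one_pos hθ
    have hb := Coherence.degree_bound (derivedIn M)
      (B := (fittingHallOf M ⊔ C).subgroupOf M) (C := derivedIn M) (D := derivedIn M)
      (subgroupOf_le_of_le F.st.inv_HC.le) le_rfl le_rfl (fun x hx y hy => by
        have := F.derived_le_HC (commutator_mem_commutator (mem_subgroupOf.mp hx) (mem_subgroupOf.mp hy))
        rw [mem_subgroupOf]
        simpa [commutatorElement_def] using this) hθ hk hf
    rw [relIndex_self, one_pow, one_mul] at hb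
    have : f = 1 := le_antisymm (by nlinarith) hf0
    rw [indFun_one, Noncoherent.index_derivedIn F.st.hP, hf, this, Nat.cast_one, mul_one]
  refine ⟨by_contra fun hn => ?_, hdeg⟩
  obtain ⟨j, hj, hj1, rfl⟩ := F.ctx.hμ.red_eq_col F.st.hG F.st.hP (F.degQ_subset hφ) hn
  rw [F.ctx.col_one hj hj1] at hdeg
  have h := (mul_eq_right₀ natCard_ne_zero).1 hdeg
  have := F.st.toData.two_le_u F.st.chief
  have : C.relIndex U = 1 := by exact_mod_cast h
  omega

theorem Full.degQ_finite : (degQ M C).Finite := Coherence.above_finite _ _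

/-- There are at least `n` members of degree `q`. -/
theorem Full.card_degQ : n ≤ (F.degQ_finite.toFinset.card : ℤ) := by
  classical
  haveI := Noncoherent.derivedIn_normal M
  haveI := F.st.inv_HC.normal
  obtain ⟨R', hR'⟩ := F.st.hS
  have h := Coherence.sum_above (derivedIn M) hR' ((fittingHallOf M ⊔ C).subgroupOf M)
    F.degQ_finite.toFinset (fun φ hφ => by
      rw [← Noncoherent.calS_eq_above F.st.hcore]
      exact F.degQ_subset (F.degQ_finite.mem_toFinset.1 hφ))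
    (fun φ hφ => F.degQ_finite.mem_toFinset.2 hφ) (fun _ => Nat.card W₁) (fun _ => 1)
    (fun φ hφ => (F.degQ_spec (F.degQ_finite.mem_toFinset.1 hφ)).2)
    (fun φ hφ => by
      rw [classInner_isIrr_self (F.degQ_spec (F.degQ_finite.mem_toFinset.1 hφ)).1, Nat.cast_one])
  rw [Noncoherent.index_derivedIn F.st.hP, derivedIn, relIndex_subgroupOf M.commutator_le_self,
    F.st.relIndex_HC, Finset.sum_const, nsmul_eq_mul, Nat.cast_one, div_one] at h
  have he := F.ctx.hc.eq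
  have hR : ((C.relIndex U : ℕ) : ℝ) - 1 = (n : ℝ) * (Nat.card W₁ : ℝ) := by
    have : ((C.relIndex U : ℤ) : ℝ) = ((1 + n * (Nat.card W₁ : ℤ) : ℤ) : ℝ) := by rw [he]
    push_cast at this
    linarith
  rw [hR] at h
  have hq : (0 : ℝ) < (Nat.card W₁ : ℝ) := Nat.cast_pos.2 Nat.card_pos
  have h2 : (n : ℝ) ≤ (F.degQ_finite.toFinset.card : ℝ) :=
    le_of_mul_le_mul_right (h.trans_eq' (by ring) |>.trans_eq (by ring)) (mul_pos hq hq)
  exact_mod_cast h2

theorem Full.ne_col {φ : ↥M → ℂ} (hi : IsIrrCharacter ↥M φ) {j : ↥(W₁ ⊔ W₂) →* ℂˣ}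
    (hj : j ∈ rightSet W₁ W₂) : φ ≠ colSum μ j :=
  fun e => F.ctx.hμ.col_not_irr F.st.hG F.st.hP hj (e ▸ hi)

theorem Full.delta_one {j : ↥(W₁ ⊔ W₂) →* ℂˣ} (hj : j ∈ rightSet W₁ W₂) (hj1 : j ≠ 1) :
    δ j = 1 ∧ μ j 1 = (C.relIndex U : ℂ) := by
  have e : (1 : ↥(W₁ ⊔ W₂) →* ℂˣ) * j = j := one_mul j
  have h1 := F.ctx.hc.delta 1 CyclicTI.isLeft_one j hj hj1
  have h2 := F.ctx.hc.degree 1 CyclicTI.isLeft_one j hj hj1
  rw [e] at h1 h2
  exact ⟨by simpa using h1, h2⟩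

/-- Differences of columns go to differences of columns. -/
theorem Full.tau_col_diff {j k : ↥(W₁ ⊔ W₂) →* ℂˣ} (hj : j ∈ rightSet W₁ W₂) (hj1 : j ≠ 1)
    (hk : k ∈ rightSet W₁ W₂) (hk1 : k ≠ 1) :
    tau M (colSum μ j - colSum μ k) = colSum η j - colSum η k := by
  classical
  haveI := Fintype.ofFinite (leftSet W₁ W₂)
  simp only [Tools.colSum_eq_sum]
  rw [← Finset.sum_sub_distrib, tau_sum, ← Finset.sum_sub_distrib]
  refine Finset.sum_congr rfl fun i _ => ?_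
  rw [rowDiff F.st.hG M W₁ U W₂ F.st.hM F.st.hP η F.ctx.hη μ δ F.ctx.hμ i i.2 j hj k hk hj1 hk1
    (by rw [(F.delta_one hj hj1).1, (F.delta_one hk hk1).1])
    (by rw [(F.delta_one hj hj1).2, (F.delta_one hk hk1).2]), (F.delta_one hj hj1).1, one_smul]

/-- Images under `τ` have constant sums along the rows `i ≠ 1` (orthogonality with the partner). -/
theorem Full.row_orth (α : ↥M → ℂ) : ∀ j ∈ rightSet W₂ W₁, ∀ k ∈ rightSet W₂ W₁, j ≠ 1 → k ≠ 1 →
    classInner (tau M α) (colSum (fun ω => η (Tools.swapDual ω)) j) =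
      classInner (tau M α) (colSum (fun ω => η (Tools.swapDual ω)) k) := by
  classical
  intro j hj k hk hj1 hk1
  obtain ⟨-, T, V, hT, hTP, -, -, -, hnc⟩ :=
    Noncoherent.exists_partner F.st.hG F.st.hM F.st.hP F.st.hcore
  haveI := Fintype.ofFinite T
  haveI := Fintype.ofFinite (leftSet W₂ W₁)
  obtain ⟨μ', δ', hμ'⟩ := mu F.st.hG T W₂ V W₁ hT hTP
  obtain ⟨d', ε', n', hc'⟩ := Noncoherent.exists_muConst F.st.hG.1 hTP F.st.hq hμ'
  have hone : ∀ l ∈ rightSet W₂ W₁, l ≠ 1 → δ' l = (ε' : ℂ) ∧ μ' l 1 = (d' : ℂ) := by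
    intro l hl hl1
    have e : (1 : ↥(W₂ ⊔ W₁) →* ℂˣ) * l = l := one_mul l
    have h1 := hc'.delta 1 CyclicTI.isLeft_one l hl hl1
    have h2 := hc'.degree 1 CyclicTI.isLeft_one l hl hl1
    rw [e] at h1 h2
    exact ⟨h1, h2⟩
  set η' := fun ω => η (Tools.swapDual ω)
  have hη' := Tools.isCyclicTIFamily_swap F.ctx.hη
  have hτ : tau T (colSum μ' j - colSum μ' k) = (ε' : ℂ) • (colSum η' j - colSum η' k) := by
    simp only [Tools.colSum_eq_sum]
    rw [← Finset.sum_sub_distrib, tau_sum, ← Finset.sum_sub_distrib, Finset.smul_sum]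
    refine Finset.sum_congr rfl fun i _ => ?_
    rw [rowDiff F.st.hG T W₂ V W₁ hT hTP η' hη' μ' δ' hμ' i i.2 j hj k hk hj1 hk1
      (by rw [(hone j hj hj1).1, (hone k hk hk1).1])
      (by rw [(hone j hj hj1).2, (hone k hk hk1).2]), (hone j hj hj1).1]
  have hmem : colSum μ' j - colSum μ' k ∈ zspanOn (calS T) {1}ᶜ := by
    refine Isometry.mem_zspanOn_compl_one (Submodule.sub_mem _
      (Isometry.mem_zS (hμ'.col_mem F.st.hG hTP hj hj1))
      (Isometry.mem_zS (hμ'.col_mem F.st.hG hTP hk hk1))) ?_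
    rw [Pi.sub_apply, hμ'.col_apply_derived F.st.hG hTP j (x := (1 : T)) (by simp),
      hμ'.col_apply_derived F.st.hG hTP k (x := (1 : T)) (by simp), (hone j hj hj1).2,
      (hone k hk hk1).2, sub_self]
  have h0 : classInner (tau M α) (tau T (colSum μ' j - colSum μ' k)) = 0 :=
    Tools.inner_tau_A0_partner F.st.hG F.st.hM hT F.st.hP hTP hnc
      (Tools.isClassFunction_of_mem_calS hmem.1)
      fun x hx => Tools.supp_calS F.st.hG hT hTP hmem x hx
  rw [hτ, classInner_smul_right, map_intCast, classInner_sub_right, mul_eq_zero] at h0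
  refine sub_eq_zero.1 (h0.resolve_left ?_)
  rcases hc'.sign with e | e <;> rw [e] <;> norm_num

/-- Constancy of the first column. -/
theorem Full.row_const {X : G → ℂ} (hX : IsClassFunction G X)
    (hV : ∀ w : ↥(W₁ ⊔ W₂), (w : G) ∉ W₁ → (w : G) ∉ W₂ → X w = 0)
    {a : (↥(W₁ ⊔ W₂) →* ℂˣ) → ℤ} (ha : ∀ ω, classInner X (η ω) = (a ω : ℂ))
    (horth : ∀ j ∈ rightSet W₂ W₁, ∀ k ∈ rightSet W₂ W₁, j ≠ 1 → k ≠ 1 →
      classInner X (colSum (fun ω => η (Tools.swapDual ω)) j) =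
        classInner X (colSum (fun ω => η (Tools.swapDual ω)) k)) :
    ∃ r : ℤ, ∀ i ∈ leftSet W₁ W₂, i ≠ 1 → a i = r := by
  obtain ⟨-, T, V, hT, hTP, -⟩ := Noncoherent.exists_partner F.st.hG F.st.hM F.st.hP F.st.hcore
  obtain ⟨r, hr⟩ := Tools.const_of_colSum (Tools.isCyclicTIFamily_swap F.ctx.hη) hTP.selfNormalizing
    hX (fun w h1 h2 => hV ⟨w, sup_comm W₂ W₁ ▸ w.2⟩ h2 h1)
    (a := fun ω => a (Tools.swapDual ω)) (fun ω => ha _) horth
  refine ⟨r, fun i hi hi1 => ?_⟩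
  have h := hr (Tools.swapDual i) (Tools.swapDual_mem_rightSet.2 hi)
    (fun e => hi1 (Tools.swapDual_injective (e.trans Tools.swapDual_one.symm)))
  simpa [Tools.swapDual_swapDual] using h

end

end Cfsg.Agent.OddChar.TypeP.TypeThree
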