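import Cfsg.Agent.OddChar.TypeP.TypeThree.Basic
import Cfsg.Agent.OddChar.TypeP.TypeThree.Algebra
import Cfsg.Agent.OddChar.TypeP.Chief
import Cfsg.Agent.Lib.Coprime.FrobeniusPGroup

/-!
# Peterfalvi (11.3)-(11.6): non-coherence forces `C = U'` and `H = [H, U]`
-/

set_option autoImplicit false
set_option linter.unusedSectionVars false
set_option linter.style.haveILetI false

namespace Cfsg.Agent.OddChar.TypeP.TypeThree

open Cfsg Subgroup
open Cfsg.Agent.OddLocal
open scoped commutatorElement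

universe u

variable {G : Type u} [Group G] [Fintype G] {M W₁ U W₂ H₀ C : Subgroup G} [Fintype M]

/-- What is assumed of `M`. -/
structure Data (M W₁ U W₂ : Subgroup G) [Fintype M] : Prop where
  hG : IsMinSimpleOddOrder G
  hM : IsCoatom M
  hP : IsTypePWith M W₁ U W₂
  hcore : typeCore M = ⁅M, M⁆
  hp : (Nat.card W₂).Prime
  hq : (Nat.card W₁).Prime
  hU : U ≠ ⊥
  hS : HasSystem M
  hnc : ¬ Coh M ⊥

section

variable (d : Data M W₁ U W₂)
include d

theorem Data.derived_eq : (⁅M, M⁆ : Subgroup G) = fittingHallOf M ⊔ U := by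
  refine le_antisymm (fun x hx => ?_) (sup_le (H_le_derived d.hP) d.hP.U_compl.2.1)
  obtain ⟨a, ha, b, hb, rfl⟩ := d.hP.U_compl.2.2.2 x hx
  exact mul_mem_sup ha hb

theorem Data.odd (X : Subgroup G) : Odd (Nat.card X) :=
  d.hG.1.of_dvd_nat (card_subgroup_dvd_card X)

theorem Data.three_le {X : Subgroup G} (h : X ≠ ⊥) : 3 ≤ Nat.card X := by
  obtain ⟨k, hk⟩ := d.odd X
  have := (one_lt_card_iff_ne_bot X).mpr h
  omega

theorem Data.coprime_p_q : (Nat.card W₂).Coprime (Nat.card W₁) :=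
  ((coprime_H d.hP).coprime_dvd_left (card_dvd_of_le (W₂_le_H d.hP))).coprime_dvd_right
    (dvd_mul_left _ _)

theorem Data.big : 4 * Nat.card W₁ ^ 2 + 1 < Nat.card W₂ ^ Nat.card W₁ :=
  pow_big (d.three_le d.hP.selfNormalizing.2.1) (d.three_le d.hP.W₁_ne)
    (fun e => by
      have h := d.coprime_p_q
      rw [e, Nat.coprime_self] at h
      exact d.hq.ne_one h)
    (d.odd W₁) (d.odd W₂)

theorem Data.inv_H : Inv M (fittingHallOf M) := ⟨H_le_derived d.hP, M_le_normalizer_H M⟩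

theorem Data.inv_derived_H : Inv M ⁅fittingHallOf M, fittingHallOf M⁆ :=
  ⟨(fittingHallOf M).commutator_le_self.trans (H_le_derived d.hP),
    OddLocal.Coprime.le_normalizer_commutator_self (M_le_normalizer_H M)⟩

theorem Data.inv_derived_comm : Inv M ⁅fittingHallOf M, U⁆ := by
  have hUH : U ≤ normalizer (fittingHallOf M : Set G) :=
    (U_le_M d.hP).trans (M_le_normalizer_H M)
  refine ⟨(Coprime.commutator_le_of_le_normalizer hUH).trans (H_le_derived d.hP),
    M_le_of_parts d.hP (normalizer_commutator_ge_left _ _) (normalizer_commutator_ge_right _ _)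
      fun x hx => ?_⟩
  exact Cfsg.Agent.Coprime.FrobeniusPGroup.mem_normalizer_commutator
    (M_le_normalizer_H M (W₁_le_M d.hP hx)) (d.hP.U_normal hx)

/-- `N X` is normal in `M` when `X ≤ U` is invariant and centralises `H` modulo `N`. -/
theorem Data.inv_sup {N X : Subgroup G} (hN : Inv M N) (hX : X ≤ U)
    (hXn : U ⊔ W₁ ≤ normalizer (X : Set G)) (hc : ⁅fittingHallOf M, X⁆ ≤ N) : Inv M (N ⊔ X) := by
  refine ⟨sup_le hN.le (hX.trans d.hP.U_compl.2.1), M_le_of_parts d.hP (fun h hh => ?_) ?_ ?_⟩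
  · refine mem_normalizer_fintype fun y hy => ?_
    have hhN : h ∈ normalizer (N : Set G) := hN.norm (H_le_M M hh)
    have hle : N ⊔ X ≤ (N ⊔ X).comap (MulAut.conj h).toMonoidHom := by
      refine sup_le (fun n hn => mem_sup_left ((mem_normalizer_iff.mp hhN n).mp hn)) fun x hx => ?_
      show h * x * h⁻¹ ∈ N ⊔ X
      rw [show h * x * h⁻¹ = ⁅h, x⁆ * x by rw [commutatorElement_def]; group]
      exact mul_mem_sup (hc (commutator_mem_commutator hh hx)) hx
    exact hle hy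
  · exact (le_inf ((U_le_M d.hP).trans hN.norm) ((le_sup_left (b := W₁)).trans hXn)).trans
      (normalizer_inf_normalizer_le_normalizer_sup N X)
  · exact (le_inf ((W₁_le_M d.hP).trans hN.norm) ((le_sup_right (a := U)).trans hXn)).trans
      (normalizer_inf_normalizer_le_normalizer_sup N X)

theorem Data.card_sup {N X : Subgroup G} (hN : Inv M N) (hNH : N ≤ fittingHallOf M) (hX : X ≤ U) :
    Nat.card ↥(N ⊔ X) = Nat.card N * Nat.card X := by
  have h := card_sup_mul_inf (A := N) (B := X) (hX.trans ((U_le_M d.hP).trans hN.norm))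
  have hb : N ⊓ X = ⊥ := le_bot_iff.mp (le_trans (inf_le_inf hNH hX) d.hP.U_compl.2.2.1.le)
  rwa [hb, card_bot, mul_one] at h

theorem Data.relIndex_sup {N X : Subgroup G} (hN : Inv M N) (hNH : N ≤ fittingHallOf M)
    (hX : X ≤ U) : (N ⊔ X).relIndex (fittingHallOf M ⊔ X) = N.relIndex (fittingHallOf M) := by
  apply Nat.eq_of_mul_eq_mul_left (Nat.card_pos (α := ↥(N ⊔ X)))
  rw [card_mul_relIndex (sup_le_sup_right hNH X), d.card_sup d.inv_H le_rfl hX, d.card_sup hN hNH hX,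
    mul_right_comm, card_mul_relIndex hNH]

theorem Data.relIndex_derived {N X : Subgroup G} (hN : Inv M N) (hNH : N ≤ fittingHallOf M)
    (hX : X ≤ U) : (N ⊔ X).relIndex ⁅M, M⁆ = N.relIndex (fittingHallOf M) * X.relIndex U := by
  apply Nat.eq_of_mul_eq_mul_left (Nat.card_pos (α := ↥(N ⊔ X)))
  rw [card_mul_relIndex (sup_le (hNH.trans (H_le_derived d.hP)) (hX.trans d.hP.U_compl.2.1)),
    card_derived d.hP, d.card_sup hN hNH hX, ← card_mul_relIndex hNH, ← card_mul_relIndex hX]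
  ring

theorem Data.relIndex_M {X : Subgroup G} (hX : X ≤ U) :
    (fittingHallOf M ⊔ X).relIndex M = X.relIndex U * Nat.card W₁ := by
  have h1 : (⁅M, M⁆ : Subgroup G).relIndex M = Nat.card W₁ := by
    apply Nat.eq_of_mul_eq_mul_left (Nat.card_pos (α := (⁅M, M⁆ : Subgroup G)))
    rw [card_mul_relIndex M.commutator_le_self, card_M d.hP]
  rw [← relIndex_mul_relIndex _ _ _ (sup_le (H_le_derived d.hP) (hX.trans d.hP.U_compl.2.1))
    M.commutator_le_self, d.relIndex_derived d.inv_H le_rfl hX, relIndex_self, one_mul, h1]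

theorem Data.sup_ne {N X : Subgroup G} (hN : Inv M N) (hNH : N ≤ fittingHallOf M) (hX : X ≤ U)
    (hne : X ≠ U) : N ⊔ X ≠ ⁅M, M⁆ := fun e => by
  have h := d.relIndex_derived hN hNH hX
  rw [e, relIndex_self] at h
  exact hne (le_antisymm hX (relIndex_eq_one.mp (Nat.eq_one_of_mul_eq_one_left h.symm)))

theorem Data.card_modEq_U {X : Subgroup G} (hX : X ≤ U) (hn : W₁ ≤ normalizer (X : Set G)) :
    Nat.card X ≡ 1 [MOD Nat.card W₁] := by
  have h := card_modEq_fixed d.hq hn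
  have hb : X ⊓ centralizer (W₁ : Set G) = ⊥ := by
    obtain ⟨a, ha, ha1⟩ := CyclicTI.exists_mem_ne_one d.hP.W₁_ne
    refine (eq_bot_iff_forall _).mpr fun x hx => ?_
    exact W₁_fpf d.hP a ha ha1 x (hX (mem_inf.mp hx).1)
      (mem_centralizer_iff.mp (mem_inf.mp hx).2 a ha)
  rwa [hb, card_bot] at h

theorem Data.chief : ∃ H₀ C, ChiefData M W₁ U W₂ H₀ C (Nat.card W₂) := by
  obtain ⟨H₀, C, r, h⟩ := chiefStatement_proof d.hG M W₁ U W₂ d.hM d.hP d.hU d.hq
  have e : r = Nat.card W₂ := (Nat.prime_dvd_prime_iff_eq h.prime d.hp).mp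
    (h.card_W₂ ▸ relIndex_dvd_card H₀ W₂)
  exact ⟨H₀, C, e ▸ h⟩

end

section Chief

variable (d : Data M W₁ U W₂) (cd : ChiefData M W₁ U W₂ H₀ C (Nat.card W₂))
include d cd

theorem Data.C_le : C ≤ U := fun x hx => ((cd.cent ▸ (hx : x ∈ (C : Set G))) :
  x ∈ sectionCentralizer U (fittingHallOf M) H₀).1

theorem Data.H_C_le : ⁅fittingHallOf M, C⁆ ≤ H₀ := by
  rw [commutator_le]
  intro h hh c hc
  have h1 := ((cd.cent ▸ (hc : c ∈ (C : Set G))) :
    c ∈ sectionCentralizer U (fittingHallOf M) H₀).2 h hh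
  rw [← inv_mem_iff, commutatorElement_inv, commutatorElement_def]
  exact h1

theorem Data.derived_H_le : ⁅fittingHallOf M, fittingHallOf M⁆ ≤ H₀ :=
  commutator_le.mpr fun a ha b hb => by rw [commutatorElement_def]; exact cd.abelian a ha b hb

theorem Data.inv_H₀ : Inv M H₀ := ⟨cd.le.trans (H_le_derived d.hP), cd.normal⟩

theorem Data.relIndex_H₀ : H₀.relIndex (fittingHallOf M) = Nat.card W₂ ^ Nat.card W₁ :=
  Nat.eq_of_mul_eq_mul_left Nat.card_pos ((card_mul_relIndex cd.le).trans cd.card)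

theorem Data.W₂_inf : H₀ ⊓ W₂ = ⊥ := by
  rw [← card_eq_one]
  have h := card_mul_relIndex (inf_le_right : H₀ ⊓ W₂ ≤ W₂)
  rw [inf_relIndex_right, cd.card_W₂] at h
  exact Nat.eq_of_mul_eq_mul_right d.hp.pos (h.trans (one_mul _).symm)

theorem Data.nilpotent_C : Group.IsNilpotent C :=
  haveI := d.hP.U_nilpotent
  Group.nilpotent_of_mulEquiv (subgroupOfEquivOfLe (d.C_le cd))

theorem Data.two_le_u : 2 ≤ C.relIndex U := by
  have h1 : C.relIndex U ≠ 1 := fun e => cd.cent_ne (le_antisymm (d.C_le cd) (relIndex_eq_one.mp e))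
  have h2 : C.relIndex U ≠ 0 := index_ne_zero_of_finite
  omega

theorem Data.not_coh_H₀ : ¬ Coh M H₀ := by
  have hnil := NonNilpotent.isNilpotent_fittingHallOf M
  refine not_coh_of_nilpotent d.hG d.hM d.hP d.hS (N := ⊥) (H := fittingHallOf M) (C := ⊥)
    (Inv.bot M) (d.inv_H₀ cd) (d.inv_H.sup (Inv.bot M)) hnil inferInstance (H_le_M M) bot_le
    (by simp) bot_le (cd.le.trans le_sup_left) ?_ d.hnc
  rw [sup_bot_eq, d.relIndex_H₀ cd]
  exact d.big

theorem Data.not_coh_sup {X : Subgroup G} (hX : X ≤ C) (hn : U ⊔ W₁ ≤ normalizer (X : Set G)) :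
    ¬ Coh M (H₀ ⊔ X) := by
  have hXU := hX.trans (d.C_le cd)
  have hc : ⁅fittingHallOf M, X⁆ ≤ H₀ := (commutator_mono le_rfl hX).trans (d.H_C_le cd)
  haveI := d.hP.U_nilpotent
  have hXnil : Group.IsNilpotent X := Group.nilpotent_of_mulEquiv (subgroupOfEquivOfLe hXU)
  refine not_coh_of_nilpotent d.hG d.hM d.hP d.hS (N := H₀) (H := fittingHallOf M) (C := X)
    (d.inv_H₀ cd) (d.inv_sup (d.inv_H₀ cd) hXU hn hc)
    (d.inv_sup d.inv_H hXU hn (hc.trans cd.le)) (NonNilpotent.isNilpotent_fittingHallOf M) hXnil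
    (H_le_M M) (hXU.trans (U_le_M d.hP)) hc le_sup_left (sup_le_sup_right cd.le X) ?_
    (d.not_coh_H₀ cd)
  rw [d.relIndex_sup (d.inv_H₀ cd) cd.le hXU, d.relIndex_H₀ cd]
  exact d.big

omit cd in
theorem Data.derivedU_normal : U ⊔ W₁ ≤ normalizer ((⁅U, U⁆ : Subgroup G) : Set G) :=
  sup_le (OddLocal.Coprime.le_normalizer_commutator_self le_normalizer)
    (OddLocal.Coprime.le_normalizer_commutator_self d.hP.U_normal)

/-- (11.5): `C = U'`. -/
theorem Data.C_eq : C = ⁅U, U⁆ := by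
  haveI := d.hP.U_nilpotent
  set U' : Subgroup G := ⁅U, U⁆
  have hU'C : U' ≤ C := cd.derived_le
  have hU'U : U' ≤ U := U.commutator_le_self
  have hU'ne : U' ≠ U :=
    (Cfsg.Agent.Coprime.commutator_lt_of_isSolvable inferInstance d.hU).ne
  have hn := d.derivedU_normal
  have hcH : ⁅fittingHallOf M, U'⁆ ≤ H₀ := (commutator_mono le_rfl hU'C).trans (d.H_C_le cd)
  have hA : Inv M (fittingHallOf M ⊔ U') := d.inv_sup d.inv_H hU'U hn (hcH.trans cd.le)
  have hB : Inv M (H₀ ⊔ U') := d.inv_sup (d.inv_H₀ cd) hU'U hn hcH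
  have hHB : fittingHallOf M ≤ normalizer ((H₀ ⊔ U' : Subgroup G) : Set G) :=
    (H_le_M M).trans hB.norm
  have hcA : Coh M (fittingHallOf M ⊔ U') := by
    refine coh_abelian d.hG d.hM d.hP d.hS hA (d.sup_ne d.inv_H le_rfl hU'U hU'ne) ?_
    rw [d.derived_eq]
    refine commutator_sup_le ((H_le_M M).trans hA.norm) ((U_le_M d.hP).trans hA.norm) ?_ ?_
      le_sup_right
    · exact (fittingHallOf M).commutator_le_self.trans le_sup_left
    · exact (Coprime.commutator_le_of_le_normalizer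
        ((U_le_M d.hP).trans (M_le_normalizer_H M))).trans le_sup_left
  have hb := bound_of_not_coh d.hG d.hM d.hP d.hS hA hB
    (X := fittingHallOf M ⊔ C) (sup_le (H_le_derived d.hP) ((d.C_le cd).trans d.hP.U_compl.2.1))
    (d.sup_ne d.inv_H le_rfl hU'U hU'ne) (d.sup_ne (d.inv_H₀ cd) cd.le hU'U hU'ne)
    (sup_le_sup cd.le hU'C)
    (commutator_sup_le hHB (((d.C_le cd).trans (U_le_M d.hP)).trans hB.norm)
      ((d.derived_H_le cd).trans le_sup_left) ((d.H_C_le cd).trans le_sup_left)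
      ((commutator_mono (d.C_le cd) (d.C_le cd)).trans le_sup_right))
    hcA (d.not_coh_sup cd hU'C hn)
  rw [d.relIndex_derived d.inv_H le_rfl hU'U, relIndex_self, one_mul, d.relIndex_M (d.C_le cd),
    ← relIndex_mul_relIndex _ _ _ hU'C (d.C_le cd)] at hb
  set m := U'.relIndex C
  set u := C.relIndex U
  have hcard : Nat.card U' * m = Nat.card C := card_mul_relIndex hU'C
  have hmod : m ≡ 1 [MOD Nat.card W₁] := by
    have h1 := d.card_modEq_U hU'U ((le_sup_right (a := U)).trans hn)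
    have h2 := d.card_modEq_U (d.C_le cd) ((le_sup_right (a := U)).trans cd.normal_cent)
    rw [← hcard] at h2
    have h3 := h1.mul_right m
    rw [one_mul] at h3
    exact h3.symm.trans h2
  have hodd : Odd m := (d.odd C).of_dvd_nat (hcard ▸ dvd_mul_left m _)
  have hu := d.two_le_u cd
  have hm : m ≤ 2 * Nat.card W₁ := by
    by_contra hlt
    push Not at hlt
    have h1 : m * u ≤ 2 * (u * Nat.card W₁) + 1 := by omega
    nlinarith
  exact le_antisymm (relIndex_eq_one.mp (eq_one_of_small (d.odd W₁) hodd hm hmod)) hU'C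

theorem Data.C_centralizes : C ≤ centralizer (fittingHallOf M : Set G) :=
  (d.C_eq cd).le.trans (S1388.result M W₁ U W₂ d.hP).1

theorem Data.C_eq_centralizer : C = U ⊓ centralizer (fittingHallOf M : Set G) := by
  refine le_antisymm (le_inf (d.C_le cd) (d.C_centralizes cd)) fun x hx => ?_
  have h1 : x ∈ sectionCentralizer U (fittingHallOf M) H₀ := ⟨(mem_inf.mp hx).1, fun h hh => by
    rw [← mem_centralizer_iff.mp (mem_inf.mp hx).2 h hh, mul_inv_cancel_right, mul_inv_cancel]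
    exact one_mem _⟩
  exact (cd.cent.symm ▸ h1 : x ∈ (C : Set G))

theorem Data.H_C_bot : ⁅fittingHallOf M, C⁆ = ⊥ :=
  Coprime.commutator_eq_bot_iff_le_centralizer'.mpr (d.C_centralizes cd)

theorem Data.W₂_le_comm : W₂ ≤ ⁅fittingHallOf M, U⁆ ⊔ ⁅fittingHallOf M, fittingHallOf M⁆ := by
  set A := ⁅fittingHallOf M, U⁆ ⊔ ⁅fittingHallOf M, fittingHallOf M⁆
  have hA : Inv M A := d.inv_derived_comm.sup d.inv_derived_H
  have hU'U : ⁅U, U⁆ ≤ U := U.commutator_le_self
  have hle : ⁅(⁅M, M⁆ : Subgroup G), ⁅M, M⁆⁆ ≤ A ⊔ ⁅U, U⁆ := by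
    have hn : Inv M (A ⊔ ⁅U, U⁆) := by
      refine d.inv_sup hA hU'U d.derivedU_normal ?_
      rw [← d.C_eq cd, d.H_C_bot cd]
      exact bot_le
    rw [d.derived_eq]
    exact commutator_sup_le ((H_le_M M).trans hn.norm) ((U_le_M d.hP).trans hn.norm)
      ((le_sup_right.trans le_sup_left : ⁅fittingHallOf M, fittingHallOf M⁆ ≤ A ⊔ ⁅U, U⁆))
      (le_sup_left.trans le_sup_left) le_sup_right
  intro w hw
  obtain ⟨hwH, hw2⟩ := mem_inf.mp (d.hP.W₂_le hw)
  have h3 := hle hw2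
  rw [sup_comm] at h3
  obtain ⟨c, hc, a, ha, rfl⟩ := (Basics.mem_sup_of_normalizing
    (hU'U.trans ((U_le_M d.hP).trans hA.norm))).mp h3
  have haH : a ∈ fittingHallOf M :=
    (sup_le (Coprime.commutator_le_of_le_normalizer
      ((U_le_M d.hP).trans (M_le_normalizer_H M))) (fittingHallOf M).commutator_le_self :
      A ≤ fittingHallOf M) ha
  have h1 : c ∈ fittingHallOf M ⊓ U := mem_inf.mpr ⟨(mul_mem_cancel_right haH).mp hwH, hU'U hc⟩
  rw [d.hP.U_compl.2.2.1, mem_bot] at h1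
  rwa [h1, one_mul]

/-- (11.6): `H = [H, U]`. -/
theorem Data.comm_eq : ⁅fittingHallOf M, U⁆ = fittingHallOf M := by
  set H := fittingHallOf M with hH
  have hnil : Group.IsNilpotent H := NonNilpotent.isNilpotent_fittingHallOf M
  have hUH : U ≤ normalizer (H : Set G) := (U_le_M d.hP).trans (M_le_normalizer_H M)
  have hHUle : ⁅H, U⁆ ≤ H := Coprime.commutator_le_of_le_normalizer hUH
  set A := ⁅H, U⁆ ⊔ ⁅H, H⁆
  have hA : Inv M A := d.inv_derived_comm.sup d.inv_derived_H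
  have hAH : A ≤ H := sup_le hHUle H.commutator_le_self
  suffices e : A = H from Coprime.eq_of_le_of_sup_commutator_eq hHUle e
  have hCU := d.C_le cd
  have hHC : ⁅H, C⁆ = ⊥ := d.H_C_bot cd
  have hAC : Inv M (A ⊔ C) := d.inv_sup hA hCU cd.normal_cent (hHC ▸ bot_le)
  have hH' := d.inv_derived_H
  have hBC : Inv M (⁅H, H⁆ ⊔ C) := d.inv_sup hH' hCU cd.normal_cent (hHC ▸ bot_le)
  have hHC' : Inv M (H ⊔ C) := d.inv_sup d.inv_H hCU cd.normal_cent (hHC ▸ bot_le)
  have hnB : ¬ Coh M (⁅H, H⁆ ⊔ C) := by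
    refine not_coh_of_nilpotent d.hG d.hM d.hP d.hS (N := ⊥) (H := H) (C := C) (Inv.bot M) hBC hHC'
      hnil (d.nilpotent_C cd) (H_le_M M) (hCU.trans (U_le_M d.hP)) hHC.le bot_le
      (sup_le_sup_right H.commutator_le_self C) ?_ d.hnc
    rw [d.relIndex_sup hH' H.commutator_le_self hCU]
    refine lt_of_lt_of_le d.big (Nat.le_of_dvd (Nat.pos_of_ne_zero index_ne_zero_of_finite) ?_)
    rw [← d.relIndex_H₀ cd]
    exact relIndex_dvd_of_le_left _ (d.derived_H_le cd)
  have hcA : Coh M (A ⊔ C) := by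
    refine coh_abelian d.hG d.hM d.hP d.hS hAC (d.sup_ne hA hAH hCU cd.cent_ne) ?_
    rw [d.derived_eq]
    exact commutator_sup_le ((H_le_M M).trans hAC.norm) ((U_le_M d.hP).trans hAC.norm)
      ((le_sup_right.trans le_sup_left : ⁅H, H⁆ ≤ A ⊔ C)) (le_sup_left.trans le_sup_left)
      ((d.C_eq cd).ge.trans le_sup_right)
  have hb := bound_of_not_coh d.hG d.hM d.hP d.hS hAC hBC (X := H ⊔ C) hHC'.le
    (d.sup_ne hA hAH hCU cd.cent_ne) (d.sup_ne hH' H.commutator_le_self hCU cd.cent_ne)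
    (sup_le_sup_right H.commutator_le_self C)
    (commutator_sup_le ((H_le_M M).trans hBC.norm) ((hCU.trans (U_le_M d.hP)).trans hBC.norm)
      le_sup_left (hHC ▸ bot_le) (C.commutator_le_self.trans le_sup_right))
    hcA hnB
  rw [d.relIndex_derived hA hAH hCU, d.relIndex_M hCU] at hb
  set D := A.relIndex H
  set u := C.relIndex U
  have hcard : Nat.card A * D = Nat.card H := card_mul_relIndex hAH
  have hWH : W₁ ≤ normalizer (H : Set G) := (W₁_le_M d.hP).trans (M_le_normalizer_H M)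
  have hfix := H_inf_centralizer_W₁ d.hP
  have hfixA : A ⊓ centralizer (W₁ : Set G) = W₂ :=
    le_antisymm ((inf_le_inf_right _ hAH).trans hfix.le)
      (le_inf (d.W₂_le_comm cd) (hfix.ge.trans inf_le_right))
  have h1 := card_modEq_fixed d.hq ((W₁_le_M d.hP).trans hA.norm)
  have h2 := card_modEq_fixed d.hq hWH
  rw [hfixA] at h1
  rw [hfix, ← hcard] at h2
  have hmod : D ≡ 1 [MOD Nat.card W₁] := by
    have h3 : Nat.card W₂ * D ≡ Nat.card W₂ * 1 [MOD Nat.card W₁] := by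
      rw [mul_one]
      exact (h1.symm.mul_right D).trans h2
    exact Nat.ModEq.cancel_left_of_coprime d.coprime_p_q.symm h3
  have hodd : Odd D := (d.odd H).of_dvd_nat (hcard ▸ dvd_mul_left D _)
  have hu := d.two_le_u cd
  have hm : D ≤ 2 * Nat.card W₁ := by
    by_contra hlt
    push Not at hlt
    have h1 : D * u ≤ 2 * (u * Nat.card W₁) + 1 := by omega
    nlinarith
  exact le_antisymm hAH (relIndex_eq_one.mp (eq_one_of_small (d.odd W₁) hodd hm hmod))

end Chief

end Cfsg.Agent.OddChar.TypeP.TypeThree
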